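import Cfsg.Prelude.Def_LieTypeDatum
import Cfsg.Prelude.Def_StandardType
import Cfsg.Agent.SpGeom.Simple
set_option autoImplicit false

/-!
The standard automorphisms of `PSp_2m(F)`: conjugation by similitudes and field automorphisms.
-/

namespace CfsgLib.AutPSp

open Matrix
open CfsgLib.SpGeom

variable {F : Type*} [Field F] {m : ℕ}

local notation "V" => (Fin m ⊕ Fin m → F)
local notation "Sp" => Matrix.symplecticGroup (Fin m) F
local notation "GS" => Cfsg.GSp m F
local notation "PSp'" => Cfsg.PSp m F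
local notation "B" => Cfsg.sympForm m F
local notation "mat" A:max => ((A : Sp) : Matrix (Fin m ⊕ Fin m) (Fin m ⊕ Fin m) F)
local notation "mg" A:max => (((A : GS) : GL (Fin m ⊕ Fin m) F) : Matrix (Fin m ⊕ Fin m) (Fin m ⊕ Fin m) F)

/-- The projection of `Sp` to `PSp`. -/
def proj : Sp →* PSp' := QuotientGroup.mk' _

theorem proj_surjective : Function.Surjective (proj (F := F) (m := m)) :=
  QuotientGroup.mk_surjective

theorem proj_eq_one_iff {x : Sp} : proj x = 1 ↔ x ∈ Subgroup.center Sp :=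
  QuotientGroup.eq_one_iff x

theorem mul_mulVec' (A A' : Sp) (v : V) : mat (A * A') *ᵥ v = mat A *ᵥ (mat A' *ᵥ v) := by
  rw [coe_mul', ← Matrix.mulVec_mulVec]

theorem one_mulVec' (v : V) : mat (1 : Sp) *ᵥ v = v := Matrix.one_mulVec v

theorem exists_sign_of_proj_eq (hm : 0 < m) {x y : Sp} (h : proj x = proj y) :
    ∃ c : F, (c = 1 ∨ c = -1) ∧ ∀ v : V, mat y *ᵥ v = c • (mat x *ᵥ v) := by
  have hz : x⁻¹ * y ∈ Subgroup.center Sp := QuotientGroup.eq.1 h
  have e : ∀ v : V, mat y *ᵥ v = mat x *ᵥ (mat (x⁻¹ * y) *ᵥ v) := fun v => by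
    rw [← mul_mulVec', mul_inv_cancel_left]
  rcases (CfsgLib.Symp.mem_center_iff hm _).1 hz with hz | hz
  · exact ⟨1, Or.inl rfl, fun v => by rw [e, hz, Matrix.one_mulVec, one_smul]⟩
  · exact ⟨-1, Or.inr rfl, fun v => by
      rw [e, hz, Matrix.neg_mulVec, Matrix.one_mulVec, Matrix.mulVec_neg, neg_one_smul]⟩

theorem mem_center_of_scalar {z : Sp} {c : F} (hz : ∀ v : V, mat z *ᵥ v = c • v) :
    z ∈ Subgroup.center Sp := by
  rw [Subgroup.mem_center_iff]
  intro A
  refine ext_mulVec fun v => ?_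
  rw [mul_mulVec', mul_mulVec', hz, hz, Matrix.mulVec_smul]

theorem proj_eq_of_smul {x y : Sp} {c : F} (h : ∀ v : V, mat y *ᵥ v = c • (mat x *ᵥ v)) :
    proj x = proj y := by
  refine QuotientGroup.eq.2 (mem_center_of_scalar (c := c) fun v => ?_)
  rw [mul_mulVec', h, Matrix.mulVec_smul, inv_mulVec]

/-- An automorphism of `Sp` induces one of `PSp`. -/
noncomputable def descend : MulAut Sp →* MulAut PSp' where
  toFun e := QuotientGroup.congr _ _ e (by
    ext x
    simp only [Subgroup.mem_map, MonoidHom.coe_coe]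
    constructor
    · rintro ⟨y, hy, rfl⟩
      rw [Subgroup.mem_center_iff] at hy ⊢
      intro z
      obtain ⟨z, rfl⟩ := e.surjective z
      rw [← map_mul, hy, map_mul]
    · intro hx
      refine ⟨e.symm x, ?_, e.apply_symm_apply x⟩
      rw [Subgroup.mem_center_iff] at hx ⊢
      intro z
      apply e.injective
      rw [map_mul, map_mul, e.apply_symm_apply, hx])
  map_one' := by
    refine MulEquiv.ext fun x => ?_
    obtain ⟨g, rfl⟩ := QuotientGroup.mk_surjective x
    rfl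
  map_mul' e e' := by
    refine MulEquiv.ext fun x => ?_
    obtain ⟨g, rfl⟩ := QuotientGroup.mk_surjective x
    rfl

theorem GS_coe_mul (g h : GS) : mg (g * h) = mg g * mg h := rfl

theorem GS_inv_mulVec (g : GS) (v : V) : mg g⁻¹ *ᵥ (mg g *ᵥ v) = v := by
  rw [Matrix.mulVec_mulVec, ← GS_coe_mul, inv_mul_cancel]
  exact Matrix.one_mulVec v

theorem GS_mulVec_inv (g : GS) (v : V) : mg g *ᵥ (mg g⁻¹ *ᵥ v) = v := by
  rw [Matrix.mulVec_mulVec, ← GS_coe_mul, mul_inv_cancel]
  exact Matrix.one_mulVec v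

theorem GS_ext {g h : GS} (e : ∀ v : V, mg g *ᵥ v = mg h *ᵥ v) : g = h :=
  Subtype.ext (Units.ext (Matrix.ext_iff_mulVec.2 e))

/-- The multiplier of a similitude. -/
noncomputable def mult (g : GS) : Fˣ := g.2.choose

theorem mult_spec (g : GS) (u v : V) : B (mg g *ᵥ u) (mg g *ᵥ v) = (mult g : F) * B u v :=
  g.2.choose_spec u v

theorem exists_pair (hm : 0 < m) : ∃ u v : V, B u v = 1 :=
  ⟨Pi.single (Sum.inr ⟨0, hm⟩) 1, Pi.single (Sum.inl ⟨0, hm⟩) 1, by rw [form_single_inl_right]; simp⟩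

theorem mult_eq (hm : 0 < m) {g : GS} {c : F} (h : ∀ u v : V, B (mg g *ᵥ u) (mg g *ᵥ v) = c * B u v) :
    (mult g : F) = c := by
  obtain ⟨u, v, huv⟩ := exists_pair (F := F) hm
  have h1 := h u v
  rwa [mult_spec, huv, mul_one, mul_one] at h1

theorem conj_form (g : GS) (A : Sp) (u v : V) :
    B ((mg g * mat A * mg g⁻¹) *ᵥ u) ((mg g * mat A * mg g⁻¹) *ᵥ v) = B u v := by
  simp only [← Matrix.mulVec_mulVec]
  rw [mult_spec, form_mulVec, ← mult_spec, GS_mulVec_inv, GS_mulVec_inv]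

/-- Conjugation by a similitude on `Sp`. -/
def conjSp : GS →* MulAut Sp where
  toFun g :=
    { toFun := fun x => ⟨mg g * mat x * mg g⁻¹, mem_of_form fun u v => conj_form g x u v⟩
      invFun := fun x => ⟨mg g⁻¹ * mat x * mg g⁻¹⁻¹, mem_of_form fun u v => conj_form g⁻¹ x u v⟩
      left_inv := fun x => Subtype.ext (by
        change (g.1⁻¹).1 * (g.1.1 * x.1 * (g.1⁻¹).1) * (g.1⁻¹⁻¹).1 = x.1
        simp [Matrix.mul_assoc])
      right_inv := fun x => Subtype.ext (by
        change g.1.1 * ((g.1⁻¹).1 * x.1 * (g.1⁻¹⁻¹).1) * (g.1⁻¹).1 = x.1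
        simp [Matrix.mul_assoc])
      map_mul' := fun x y => Subtype.ext (by
        change g.1.1 * (x.1 * y.1) * (g.1⁻¹).1 =
          (g.1.1 * x.1 * (g.1⁻¹).1) * (g.1.1 * y.1 * (g.1⁻¹).1)
        simp [Matrix.mul_assoc]) }
  map_one' := MulEquiv.ext fun x => Subtype.ext (by
    change (1 : GL (Fin m ⊕ Fin m) F).1 * x.1 * ((1 : GL (Fin m ⊕ Fin m) F)⁻¹).1 = x.1
    simp)
  map_mul' g h := MulEquiv.ext fun x => Subtype.ext (by
    change (g.1 * h.1).1 * x.1 * ((g.1 * h.1)⁻¹).1 =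
      g.1.1 * (h.1.1 * x.1 * (h.1⁻¹).1) * (g.1⁻¹).1
    simp [Matrix.mul_assoc, Matrix.mul_inv_rev])

theorem conjSp_val (g : GS) (x : Sp) : mat (conjSp g x) = mg g * mat x * mg g⁻¹ := rfl

theorem conjSp_mulVec (g : GS) (x : Sp) (v : V) :
    mat (conjSp g x) *ᵥ (mg g *ᵥ v) = mg g *ᵥ (mat x *ᵥ v) := by
  rw [conjSp_val, ← Matrix.mulVec_mulVec, ← Matrix.mulVec_mulVec, GS_inv_mulVec]

/-- Inclusion of `Sp` in the similitudes. -/
def toGS : Sp →* GS :=
  MonoidHom.mk' (fun A => ⟨⟨A.1, (A⁻¹).1, congrArg Subtype.val (mul_inv_cancel A),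
      congrArg Subtype.val (inv_mul_cancel A)⟩,
    1, fun u v => by rw [Units.val_one, one_mul]; exact form_mulVec A u v⟩)
    fun A A' => Subtype.ext (Units.ext rfl)

theorem conjSp_toGS (h x : Sp) : conjSp (toGS h) x = h * x * h⁻¹ := Subtype.ext rfl

theorem form_map (τ : RingAut F) (u v : V) : B (τ ∘ u) (τ ∘ v) = τ (B u v) := by
  simp [form_def, map_sum, map_sub, map_mul]

theorem map_mulVec (τ : RingAut F) (M : Matrix (Fin m ⊕ Fin m) (Fin m ⊕ Fin m) F) (v : V) :
    M.map τ *ᵥ (τ ∘ v) = τ ∘ (M *ᵥ v) := by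
  funext i
  simp [Matrix.mulVec, dotProduct, map_mul, map_sum]

theorem map_form_mem (τ : RingAut F) (A : Sp) (u v : V) :
    B ((mat A).map τ *ᵥ u) ((mat A).map τ *ᵥ v) = B u v := by
  have e : ∀ w : V, w = τ ∘ (τ.symm ∘ w) := fun w => by funext i; simp
  conv_lhs => rw [e u, e v, map_mulVec, map_mulVec, form_map, form_mulVec, ← form_map, ← e u, ← e v]

/-- A field automorphism on `Sp`. -/
def fieldSp : RingAut F →* MulAut Sp where
  toFun τ :=
    { toFun := fun x => ⟨x.1.map τ, mem_of_form fun u v => map_form_mem τ x u v⟩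
      invFun := fun x => ⟨x.1.map τ.symm, mem_of_form fun u v => map_form_mem τ.symm x u v⟩
      left_inv := fun x => Subtype.ext (Matrix.ext fun i j => τ.symm_apply_apply _)
      right_inv := fun x => Subtype.ext (Matrix.ext fun i j => τ.apply_symm_apply _)
      map_mul' := fun x y => Subtype.ext (Matrix.map_mul (f := (τ : F →+* F))) }
  map_one' := MulEquiv.ext fun x => rfl
  map_mul' σ τ := MulEquiv.ext fun x => rfl

theorem fieldSp_val (τ : RingAut F) (x : Sp) : mat (fieldSp τ x) = (mat x).map τ := rfl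

/-- Conjugation by similitudes on `PSp`. -/
noncomputable def conjPSp : GS →* MulAut PSp' := descend.comp conjSp

/-- Field automorphisms on `PSp`. -/
noncomputable def fieldPSp : RingAut F →* MulAut PSp' := descend.comp fieldSp

theorem conjPSp_proj (g : GS) (x : Sp) : conjPSp g (proj x) = proj (conjSp g x) := rfl

theorem fieldPSp_proj (τ : RingAut F) (x : Sp) : fieldPSp τ (proj x) = proj (fieldSp τ x) := rfl

theorem conjPSp_toGS (h : Sp) : conjPSp (toGS h) = MulAut.conj (proj h) := by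
  refine MulEquiv.ext fun x => ?_
  obtain ⟨g, rfl⟩ := proj_surjective x
  rw [MulAut.conj_apply, ← map_inv, ← map_mul, ← map_mul, conjPSp_proj, conjSp_toGS]

theorem inn_le_range : Cfsg.Inn PSp' ≤ (conjPSp (F := F) (m := m)).range := by
  rintro _ ⟨x, rfl⟩
  obtain ⟨h, rfl⟩ := proj_surjective x
  exact ⟨_, conjPSp_toGS h⟩

theorem fieldGS_mem (τ : RingAut F) (g : GS) :
    Units.map ((τ : F →+* F).mapMatrix (m := Fin m ⊕ Fin m)).toMonoidHom g.1 ∈ GS := by
  refine ⟨Units.map (τ : F →* F) (mult g), fun u v => ?_⟩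
  have e : ∀ w : V, w = τ ∘ (τ.symm ∘ w) := fun w => by funext i; simp
  change B ((mg g).map τ *ᵥ u) ((mg g).map τ *ᵥ v) = τ (mult g : F) * B u v
  conv_lhs => rw [e u, e v, map_mulVec, map_mulVec, form_map, mult_spec, map_mul, ← form_map, ← e u, ← e v]

/-- A field automorphism on the similitudes. -/
def fieldGS (τ : RingAut F) : GS →* GS where
  toFun g := ⟨_, fieldGS_mem τ g⟩
  map_one' := Subtype.ext (map_one _)
  map_mul' a b := Subtype.ext (map_mul _ _ _)

theorem fieldGS_val (τ : RingAut F) (g : GS) : mg (fieldGS τ g) = (mg g).map τ := rfl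

theorem fieldPSp_mul_conjPSp (τ : RingAut F) (g : GS) :
    fieldPSp τ * conjPSp g = conjPSp (fieldGS τ g) * fieldPSp τ := by
  simp only [fieldPSp, conjPSp, MonoidHom.comp_apply, ← map_mul]
  congr 1
  refine MulEquiv.ext fun x => Subtype.ext ?_
  change (τ : F →+* F).mapMatrix (mg g * mat x * mg g⁻¹) = _
  rw [map_mul, map_mul]
  rfl

/-! ### The predicates of the statements -/

theorem isInducedBySemilinearPSp (g : GS) (τ : RingAut F) :
    Cfsg.IsInducedBySemilinearPSp g.1 τ (conjPSp g * fieldPSp τ) := fun s s' h => by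
  change conjPSp g (fieldPSp τ (proj s)) = proj s'
  rw [fieldPSp_proj, conjPSp_proj]
  exact congrArg proj (Subtype.ext h.symm)

theorem mem_gammaPSp (g : GS) (τ : RingAut F) : conjPSp g * fieldPSp τ ∈ Cfsg.gammaPSp m F :=
  Subgroup.subset_closure ⟨g.1, τ, g.2, isInducedBySemilinearPSp g τ⟩

theorem isInnerDiagonalAutPSp (g : GS) : Cfsg.IsInnerDiagonalAutPSp (conjPSp g) := by
  have h := isInducedBySemilinearPSp g (RingEquiv.refl F)
  rw [show fieldPSp (m := m) (RingEquiv.refl F) = 1 from map_one fieldPSp, mul_one] at h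
  exact ⟨g.1, g.2, h⟩

theorem isStdFieldAutPSp (τ : RingAut F) : Cfsg.IsStdFieldAutPSp τ (fieldPSp (m := m) τ) :=
  fun _ _ h => by
  change fieldPSp τ (proj _) = proj _
  rw [fieldPSp_proj]
  exact congrArg proj (Subtype.ext h.symm)

theorem eq_of_isInduced {β : MulAut PSp'} {g : GS} {τ : RingAut F}
    (h : Cfsg.IsInducedBySemilinearPSp g.1 τ β) : β = conjPSp g * fieldPSp τ := by
  refine MulEquiv.ext fun x => ?_
  obtain ⟨s, rfl⟩ := proj_surjective x
  refine (h s (conjSp g (fieldSp τ s)) rfl).trans ?_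
  rw [MulAut.mul_apply, fieldPSp_proj, conjPSp_proj]
  rfl

theorem eq_conjPSp_of_isInnerDiagonal {β : MulAut PSp'} (h : Cfsg.IsInnerDiagonalAutPSp β) :
    ∃ g : GS, β = conjPSp g := by
  obtain ⟨g, hg, hind⟩ := h
  refine ⟨⟨g, hg⟩, ?_⟩
  rw [eq_of_isInduced (g := ⟨g, hg⟩) (τ := RingEquiv.refl F) hind,
    show fieldPSp (m := m) (RingEquiv.refl F) = 1 from map_one fieldPSp, mul_one]

theorem eq_fieldPSp_of_isStdField {β : MulAut PSp'} {τ : RingAut F}
    (h : Cfsg.IsStdFieldAutPSp τ β) : β = fieldPSp τ := by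
  refine MulEquiv.ext fun x => ?_
  obtain ⟨s, rfl⟩ := proj_surjective x
  exact (h s (fieldSp τ s) rfl).trans (fieldPSp_proj τ s).symm

theorem inndiagPSp_eq_range : Cfsg.inndiagPSp m F = (conjPSp (F := F) (m := m)).range := by
  refine le_antisymm ?_ ?_
  · rw [Cfsg.inndiagPSp, Cfsg.autSubgroupOf, Subgroup.closure_le]
    intro β hβ
    obtain ⟨g, rfl⟩ := eq_conjPSp_of_isInnerDiagonal hβ
    exact ⟨g, rfl⟩
  · rintro _ ⟨g, rfl⟩
    exact Subgroup.subset_closure (isInnerDiagonalAutPSp g)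

end CfsgLib.AutPSp
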