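import Cfsg.Agent.AutPSp.Points
set_option autoImplicit false

/-!
Characteristic two: images of transvections under automorphisms of `PSp_2m(F)`.
-/

namespace CfsgLib.AutPSp

open Matrix
open CfsgLib.SpGeom

variable {F : Type*} [Field F] {m : ℕ}

local notation "V" => (Fin m ⊕ Fin m → F)
local notation "Sp" => Matrix.symplecticGroup (Fin m) F
local notation "PSp'" => Cfsg.PSp m F
local notation "B" => Cfsg.sympForm m F
local notation "mat" A:max => ((A : Sp) : Matrix (Fin m ⊕ Fin m) (Fin m ⊕ Fin m) F)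

theorem proj_injective_two (hm : 0 < m) (h2 : (2 : F) = 0) :
    Function.Injective (proj (F := F) (m := m)) := by
  intro x y h
  obtain ⟨c, hc, e⟩ := exists_sign_of_proj_eq hm h
  have hc1 : c = 1 := by
    rcases hc with hc | hc
    · exact hc
    · rw [hc]; linear_combination -h2
  exact ext_mulVec fun v => by rw [e, hc1, one_smul]

theorem sq_injective_two (h2 : (2 : F) = 0) {a b : F} (h : a ^ 2 = b ^ 2) : a = b := by
  have : (a - b) ^ 2 = 0 := by linear_combination h + (b ^ 2 - a * b) * h2
  exact sub_eq_zero.1 (pow_eq_zero_iff two_ne_zero |>.1 this)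

theorem exists_sqrt_two [Finite F] (h2 : (2 : F) = 0) (c : F) : ∃ b : F, c = b ^ 2 := by
  have : Function.Bijective fun a : F => a ^ 2 :=
    Finite.injective_iff_bijective.1 fun a b h => sq_injective_two h2 h
  exact (this.2 c).imp fun b h => h.symm

/-- The transvection of `v`. -/
def tvPt (v : V) : PSp' := proj (tv v 1)

theorem tvPt_conj (A : Sp) (v : V) : proj A * tvPt v * (proj A)⁻¹ = tvPt (mat A *ᵥ v) := by
  rw [tvPt, tvPt, ← map_inv, ← map_mul, ← map_mul, tv_conj]

theorem tv_ne_one {v : V} (hv : v ≠ 0) {c : F} (hc : c ≠ 0) : tv v c ≠ 1 := fun h => by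
  obtain ⟨y, hy⟩ := exists_dual hv
  have e := tv_mulVec v c y
  rw [h, hy, mul_one, one_mulVec', left_eq_add] at e
  exact smul_ne_zero hc hv e

/-- An image of a short root element. -/
def IsShort (x : PSp') : Prop :=
  ∃ (w d : V) (h : B d w = 0), LinearIndependent F ![w, d] ∧ x = proj (eich w d 0 h)

/-- The conjugacy class of `x`. -/
def cls (x : PSp') : Set PSp' := Set.range fun g => g * x * g⁻¹

theorem image_cls (α : MulAut PSp') (x : PSp') : α '' cls x = cls (α x) := by
  rw [cls, cls, ← Set.range_comp]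
  ext y
  constructor
  · rintro ⟨g, rfl⟩
    exact ⟨α g, by simp⟩
  · rintro ⟨g, rfl⟩
    exact ⟨α.symm g, by simp⟩

theorem eich_congr {v v' z z' : V} {a : F} {h : B z v = 0} {h' : B z' v' = 0} (hv : v = v')
    (hz : z = z') : eich v z a h = eich v' z' a h' := by
  subst hv hz; rfl

/-- The element attached to a frame. -/
def frameEich (a : F) (w : Frame m 2 F) : PSp' := proj (eich (w.1 0) (w.1 1) a (w.2.2 1 0))

theorem frameEich_mem_cls (a : F) (w w' : Frame m 2 F) : frameEich a w' ∈ cls (frameEich a w) := by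
  obtain ⟨A, hA⟩ := exists_move_frame w w'
  refine ⟨proj A, ?_⟩
  change proj A * proj _ * (proj A)⁻¹ = proj _
  rw [← map_inv, ← map_mul, ← map_mul, eich_conj]
  exact congrArg proj (eich_congr (hA 0) (hA 1))

theorem exists_sep_pair {u w : V} (h : ∀ a : F, a • u ≠ w) :
    ∃ x : V, B x u = 0 ∧ B x w = 1 := by
  obtain ⟨x, hx, hxw⟩ := exists_perp_sep (w := ![u]) (u := w) (by
    rw [Matrix.range_cons, Matrix.range_empty, Set.union_empty, Submodule.mem_span_singleton]
    rintro ⟨a, ha⟩
    exact h a ha)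
  refine ⟨(B x w)⁻¹ • x, ?_, by rw [form_smul_left, inv_mul_cancel₀ hxw]⟩
  rw [form_smul_left]
  exact mul_eq_zero_of_right _ (hx 0)

theorem frame_not_smul (w : Frame m 2 F) :
    (∀ a : F, a • w.1 0 ≠ w.1 1) ∧ (∀ a : F, a • w.1 1 ≠ w.1 0) := by
  have h := Fintype.linearIndependent_iff.1 w.2.1
  constructor
  · intro a ha
    have := h ![a, -1] (by simp [Fin.sum_univ_two, ha]) 1
    simp at this
  · intro a ha
    have := h ![-1, a] (by simp [Fin.sum_univ_two, ha]) 0
    simp at this

variable [Fintype F]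

theorem frame_card_two :
    Nat.card (Frame m 2 F) = (Fintype.card F ^ (2 * m) - 1) *
      (Fintype.card F ^ (2 * m - 1) - Fintype.card F) := by
  rw [card_frame]
  simp [Finset.prod_range_succ]

theorem ncard_cls_tv_le (hm : 0 < m) {v : V} :
    (cls (tvPt v) : Set PSp').ncard + 1 ≤ Fintype.card F ^ (2 * m) ∨ v = 0 := by
  classical
  rcases eq_or_ne v 0 with h | hv
  · exact Or.inr h
  refine Or.inl ?_
  have hsub : (cls (tvPt v) : Set PSp') ⊆ tvPt '' {u : V | u ≠ 0} := by
    rintro _ ⟨g, rfl⟩
    obtain ⟨A, rfl⟩ := proj_surjective g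
    exact ⟨mat A *ᵥ v, mulVec_ne_zero A hv, (tvPt_conj A v).symm⟩
  have h1 := (Set.ncard_le_ncard hsub).trans (Set.ncard_image_le (Set.toFinite _))
  have h2 : ({u : V | u ≠ 0} : Set V).ncard + 1 = Fintype.card F ^ (2 * m) := by
    rw [← Nat.card_coe_set_eq, ← Finite.card_option]
    refine (Nat.card_congr (Equiv.optionSubtypeNe (0 : V))).trans ?_
    rw [Nat.card_eq_fintype_card, Fintype.card_fun, Fintype.card_sum, Fintype.card_fin, two_mul]
  omega

theorem card_frame_le_three (a : F) (hm : 0 < m) (h2 : (2 : F) = 0) (w₀ : Frame m 2 F) :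
    Nat.card (Frame m 2 F) ≤ (cls (frameEich a w₀)).ncard * Fintype.card F ^ 4 := by
  classical
  rw [← Nat.card_coe_set_eq]
  let π : Frame m 2 F → cls (frameEich a w₀) := fun w => ⟨_, frameEich_mem_cls a w₀ w⟩
  have : Nonempty (Frame m 2 F) := ⟨w₀⟩
  let rep : cls (frameEich a w₀) → Frame m 2 F := Function.invFun π
  have hspan : ∀ w, ∀ i, ∃ c : Fin 2 → F,
      w.1 i = c 0 • (rep (π w)).1 0 + c 1 • (rep (π w)).1 1 := by
    intro w i
    set r := rep (π w) with hr
    have heq : frameEich a w = frameEich a r :=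
      (congrArg Subtype.val (Function.invFun_eq (f := π) ⟨w, rfl⟩)).symm
    have hA := proj_injective_two hm h2 heq
    have hrange : ∀ x, ∃ c : Fin 2 → F,
        B x (w.1 0) • w.1 1 + (a * B x (w.1 0) + B x (w.1 1)) • w.1 0 =
          c 0 • r.1 0 + c 1 • r.1 1 := fun x => by
      have e := congrArg (fun A : Sp => mat A *ᵥ x) hA
      simp only [eich_mulVec, add_assoc, add_right_inj] at e
      exact ⟨![a * B x (r.1 0) + B x (r.1 1), B x (r.1 0)], by rw [e]; simp [add_comm]⟩
    obtain ⟨hn1, hn2⟩ := frame_not_smul w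
    obtain ⟨x0, hx0, hx0'⟩ := exists_sep_pair hn1
    obtain ⟨c, hc⟩ := hrange x0
    simp only [hx0, hx0', mul_zero, zero_smul, zero_add, one_smul] at hc
    fin_cases i
    · exact ⟨c, hc⟩
    · obtain ⟨x1, hx1, hx1'⟩ := exists_sep_pair hn2
      obtain ⟨c', hc'⟩ := hrange x1
      simp only [hx1, hx1', mul_one, add_zero, one_smul] at hc'
      refine ⟨c' - a • c, ?_⟩
      simp only [Fin.isValue, Fin.mk_one, Pi.sub_apply, Pi.smul_apply, smul_eq_mul]
      linear_combination (norm := module) hc' - a • hc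
  choose co hco using hspan
  have hinj : Function.Injective fun w => (π w, co w) := fun w w' h => by
    simp only [Prod.mk.injEq] at h
    refine Subtype.ext (funext fun i => ?_)
    rw [hco w i, hco w' i, h.1, h.2]
  refine (Nat.card_le_card_of_injective _ hinj).trans (le_of_eq ?_)
  rw [Nat.card_prod]
  simp [Nat.card_eq_fintype_card, ← pow_mul]

theorem card_frame_le_two (hm : 0 < m) (h2 : (2 : F) = 0) {a : F} (ha : a ≠ 0) (w₀ : Frame m 2 F) :
    Nat.card (Frame m 2 F) ≤ (cls (frameEich a w₀)).ncard * Fintype.card F := by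
  classical
  rw [← Nat.card_coe_set_eq]
  let π : Frame m 2 F → cls (frameEich a w₀) := fun w => ⟨_, frameEich_mem_cls a w₀ w⟩
  have : Nonempty (Frame m 2 F) := ⟨w₀⟩
  let rep : cls (frameEich a w₀) → Frame m 2 F := Function.invFun π
  have key : ∀ w, w.1 0 = (rep (π w)).1 0 ∧
      ∃ k : F, w.1 1 = (rep (π w)).1 1 + k • (rep (π w)).1 0 := by
    intro w
    set r := rep (π w) with hr
    have heq : frameEich a w = frameEich a r :=
      (congrArg Subtype.val (Function.invFun_eq (f := π) ⟨w, rfl⟩)).symm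
    have hA := proj_injective_two hm h2 heq
    have e : ∀ x, B x (w.1 0) • w.1 1 + (a * B x (w.1 0) + B x (w.1 1)) • w.1 0 =
          B x (r.1 0) • r.1 1 + (a * B x (r.1 0) + B x (r.1 1)) • r.1 0 := fun x => by
      have e := congrArg (fun A : Sp => mat A *ᵥ x) hA
      simpa only [eich_mulVec, add_assoc, add_right_inj] using e
    have h0 : w.1 0 = r.1 0 := by
      refine ext_form fun x => ?_
      have h := congrArg (fun z => B z x) (e x)
      simp only [form_add_left, form_smul_left] at h
      rw [form_skew x (w.1 1), form_skew x (w.1 0), form_skew x (r.1 1), form_skew x (r.1 0)] at h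
      refine sq_injective_two h2 (mul_left_cancel₀ ha ?_)
      rw [form_skew x (w.1 0), form_skew x (r.1 0)]
      linear_combination -h - (B x (w.1 0) * B x (w.1 1) - B x (r.1 0) * B x (r.1 1)) * h2
    refine ⟨h0, ?_⟩
    have hne : w.1 0 ≠ 0 := fun h => (frame_not_smul w).2 0 (by rw [zero_smul, h])
    obtain ⟨y, hy⟩ := exists_dual hne
    refine ⟨B y (r.1 1) - B y (w.1 1), ?_⟩
    have h := e y
    rw [← h0, hy] at h
    simp only [mul_one, one_smul] at h
    rw [← h0]
    linear_combination (norm := module) h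
  choose k hk using fun w => (key w).2
  have hinj : Function.Injective fun w => (π w, k w) := fun w w' h => by
    simp only [Prod.mk.injEq] at h
    refine Subtype.ext (funext (Fin.forall_fin_two.2 ⟨?_, ?_⟩))
    · rw [(key w).1, (key w').1, h.1]
    · rw [hk w, hk w', h.1, h.2]
  refine (Nat.card_le_card_of_injective _ hinj).trans (le_of_eq ?_)
  rw [Nat.card_prod, Nat.card_eq_fintype_card (α := F)]

/-- Characteristic two: a transvection maps to a transvection or, for `m = 2`, to a short root
element. -/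
theorem image_tv (hm : 2 ≤ m) (h2 : (2 : F) = 0) (α : MulAut PSp') {v : V} (hv0 : v ≠ 0) :
    (∃ w : V, w ≠ 0 ∧ α (tvPt v) = tvPt w) ∨ (m = 2 ∧ IsShort (α (tvPt v))) := by
  obtain ⟨p, hp⟩ := CharP.exists F
  have : Fact p.Prime := ⟨CharP.char_is_prime F p⟩
  obtain ⟨S, hS⟩ := exists_sylow_fix (p := p) (by omega : 0 < m) hv0
  obtain ⟨S', w, hw0, hfix, hS'⟩ := exists_image_sylow (by omega) α S
  have hx : α (tvPt v) ∈ cent ((S' : Subgroup Sp).map proj) := by
    rw [← hS', ← map_cent]
    exact Subgroup.mem_map_of_mem α.toMonoidHom (tv_mem_cent S hS 1)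
  obtain ⟨d, a, hd, he, -⟩ := eq_eich_of_mem_cent (by omega) S' hw0 hfix hx
  by_cases hdw : ∃ k : F, k • w = d
  · obtain ⟨k, rfl⟩ := hdw
    obtain ⟨b, hb⟩ := exists_sqrt_two h2 a
    have e1 : eich w (k • w) a hd = tv (b • w) 1 := ext_mulVec fun x => by
      rw [eich_mulVec, tv_smul, tv_mulVec, ← hb, mul_one, form_smul_right]
      match_scalars
      · rfl
      · linear_combination (k * B x w) * h2
    refine Or.inl ⟨b • w, fun h0 => ?_, by rw [he, e1]; rfl⟩
    have h1 : α (tvPt v) = 1 := by
      rw [he, e1, h0, show tv (0 : V) (1 : F) = 1 from ext_mulVec fun x => by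
        simp [tv_mulVec], map_one]
    rw [map_eq_one_iff α α.injective] at h1
    exact tv_ne_one hv0 one_ne_zero (proj_injective_two (by omega) h2 (h1.trans (map_one proj).symm))
  · push Not at hdw
    have hli : LinearIndependent F ![w, d] := (LinearIndependent.pair_iff' hw0).2 hdw
    let w₀ : Frame m 2 F := ⟨![w, d], hli, Fin.forall_fin_two.2
      ⟨Fin.forall_fin_two.2 ⟨form_self _, form_swap_zero hd⟩,
        Fin.forall_fin_two.2 ⟨hd, form_self _⟩⟩⟩
    have hw₀ : α (tvPt v) = frameEich a w₀ := he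
    have hc : (cls (frameEich a w₀)).ncard + 1 ≤ Fintype.card F ^ (2 * m) := by
      rw [← hw₀, ← image_cls, Set.ncard_image_of_injective _ α.injective]
      exact (ncard_cls_tv_le (by omega)).resolve_right hv0
    have hq : 2 ≤ Fintype.card F := Fintype.one_lt_card
    have hfc := frame_card_two (F := F) (m := m)
    rcases (show m = 2 ∨ 3 ≤ m by omega) with hm2 | hm3
    · refine Or.inr ⟨hm2, w, d, hd, hli, ?_⟩
      rcases eq_or_ne a 0 with ha | ha
      · subst ha; exact he
      exfalso
      have h := card_frame_le_two (by omega) h2 ha w₀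
      rw [hfc] at h
      subst hm2
      generalize (cls (frameEich a w₀)).ncard = C at h hc
      generalize Fintype.card F = q at h hc hq
      norm_num at h hc
      have h4 : 16 ≤ q ^ 4 := by simpa using Nat.pow_le_pow_left hq 4
      have h3 : 4 * q ≤ q ^ 3 := by
        calc 4 * q ≤ q * q * q := Nat.mul_le_mul_right _ (Nat.mul_le_mul hq hq)
          _ = q ^ 3 := by ring
      generalize q ^ 4 = P at h hc h4
      generalize q ^ 3 = Q at h h3
      have h7 : (P - 1) * (2 * q) ≤ (P - 1) * q :=
        ((Nat.mul_le_mul_left _ (by omega : 2 * q ≤ Q - q)).trans h).trans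
          (Nat.mul_le_mul_right _ (by omega))
      have := Nat.le_of_mul_le_mul_left h7 (by omega)
      omega
    · exfalso
      have h := card_frame_le_three a (by omega) h2 w₀
      rw [hfc] at h
      have h5 : Fintype.card F ^ 5 ≤ Fintype.card F ^ (2 * m - 1) :=
        Nat.pow_le_pow_right (by omega) (by omega)
      generalize (cls (frameEich a w₀)).ncard = C at h hc
      generalize Fintype.card F = q at h h5 hc hq
      generalize q ^ (2 * m - 1) = Q at h h5
      have hP : 2 ≤ q ^ (2 * m) := le_trans hq (Nat.le_self_pow (by omega) q)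
      generalize q ^ (2 * m) = P at h hc hP
      have h6 : q ^ 4 + 1 ≤ Q - q := by
        have : 2 * q ^ 4 ≤ q ^ 5 := by rw [pow_succ q 4, mul_comm]; exact Nat.mul_le_mul_left _ hq
        have : q < q ^ 4 := lt_self_pow₀ (by omega) (by norm_num)
        omega
      have : (P - 1) * (q ^ 4 + 1) ≤ (P - 1) * q ^ 4 :=
        ((Nat.mul_le_mul_left _ h6).trans h).trans (Nat.mul_le_mul_right _ (by omega))
      rw [Nat.mul_succ] at this
      omega

end CfsgLib.AutPSp
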