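import Cfsg.Agent.AutPSp.Frame
set_option autoImplicit false

/-!
Automorphisms of `PSp_2m(F)` permuting the transvection groups are semilinear similitudes.
-/

namespace CfsgLib.AutPSp

open Matrix
open CfsgLib.SpGeom
open scoped Pointwise

variable {F : Type*} [Field F] {m : ℕ}

local notation "V" => (Fin m ⊕ Fin m → F)
local notation "Sp" => Matrix.symplecticGroup (Fin m) F
local notation "GS" => Cfsg.GSp m F
local notation "PSp'" => Cfsg.PSp m F
local notation "B" => Cfsg.sympForm m F
local notation "mat" A:max => ((A : Sp) : Matrix (Fin m ⊕ Fin m) (Fin m ⊕ Fin m) F)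
local notation "mg" A:max => (((A : GS) : GL (Fin m ⊕ Fin m) F) : Matrix (Fin m ⊕ Fin m) (Fin m ⊕ Fin m) F)

/-! ### Semilinear similitudes -/

/-- The semilinear similitude of `g` and `τ`. -/
def semi (g : GS) (τ : RingAut F) (x : V) : V := mg g *ᵥ (τ ∘ x)

theorem semi_form (g : GS) (τ : RingAut F) (x y : V) :
    B (semi g τ x) (semi g τ y) = (mult g : F) * τ (B x y) := by
  rw [semi, semi, mult_spec, form_map]

theorem semi_surjective (g : GS) (τ : RingAut F) : Function.Surjective (semi g τ) := fun y =>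
  ⟨τ.symm ∘ (mg g⁻¹ *ᵥ y), by
    rw [semi, show τ ∘ (τ.symm ∘ (mg g⁻¹ *ᵥ y)) = mg g⁻¹ *ᵥ y from funext fun i => τ.apply_symm_apply _,
      GS_mulVec_inv]⟩

theorem semi_ne_zero (g : GS) (τ : RingAut F) {v : V} (hv : v ≠ 0) : semi g τ v ≠ 0 := fun h => by
  obtain ⟨w, hw⟩ := exists_form_ne_zero hv
  have e := semi_form g τ v w
  rw [h, form_zero_left, eq_comm, mul_eq_zero] at e
  exact hw ((map_eq_zero τ).1 (e.resolve_left (mult g).ne_zero))

/-- The standard automorphism of `g` and `τ`. -/
noncomputable def std (g : GS) (τ : RingAut F) : MulAut PSp' := conjPSp g * fieldPSp τ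

/-- The standard automorphism of `g` and `τ` in terms of the semilinear map. -/
theorem std_proj {g : GS} {τ : RingAut F} {A A' : Sp}
    (h : ∀ x, mat A' *ᵥ semi g τ x = semi g τ (mat A *ᵥ x)) :
    (std g τ) (proj A) = proj A' := by
  rw [std, MulAut.mul_apply, fieldPSp_proj, conjPSp_proj]
  congr 1
  refine ext_mulVec fun y => ?_
  obtain ⟨x, rfl⟩ := semi_surjective g τ y
  rw [h, semi, conjSp_mulVec, fieldSp_val, map_mulVec]
  rfl

theorem std_tv (g : GS) (τ : RingAut F) (v : V) (c : F) :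
    (std g τ) (proj (tv v c)) = proj (tv (semi g τ v) (τ c / (mult g : F))) := by
  refine std_proj fun x => ?_
  rw [tv_mulVec, tv_mulVec, semi_form, ← mul_assoc, div_mul_cancel₀ _ (mult g).ne_zero, ← map_mul]
  simp only [semi]
  rw [show τ ∘ (x + (c * B x v) • v) = τ ∘ x + τ (c * B x v) • (τ ∘ v) from funext fun i => by simp,
    Matrix.mulVec_add, Matrix.mulVec_smul]

theorem std_tbar (g : GS) (τ : RingAut F) (v : V) :
    (tbar v).map (std g τ).toMonoidHom = tbar (semi g τ v) := by
  ext x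
  constructor
  · rintro ⟨_, ⟨_, ⟨c, rfl⟩, rfl⟩, rfl⟩
    change (std g τ) (proj (tv v c)) ∈ _
    rw [std_tv]
    exact tv_mem_tbar _ _
  · rintro ⟨_, ⟨d, rfl⟩, rfl⟩
    refine ⟨_, tv_mem_tbar v (τ.symm (d * (mult g : F))), ?_⟩
    change (std g τ) _ = _
    rw [std_tv, τ.apply_symm_apply, mul_div_cancel_right₀ _ (mult g).ne_zero]

theorem pres_std (g : GS) (τ : RingAut F) : Pres (std g τ) :=
  fun v hv => ⟨_, semi_ne_zero g τ hv, std_tbar g τ v⟩

/-! ### The automorphism on the radical -/

theorem eich_mulVec_f {e f z : V} (hfe : B f e = 1) (hz : B z e = 0) (hzf : B z f = 0) (a : F) :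
    mat (eich e z a hz) *ᵥ f = f + z + a • e := by
  rw [eich_mulVec, hfe, form_swap_zero hzf, one_smul, mul_one, add_zero]

theorem eich_mul {e f z z' : V} (hfe : B f e = 1) (hz : B z e = 0) (hz' : B z' e = 0)
    (hzf : B z f = 0) (hzf' : B z' f = 0) (a a' : F) :
    eich e z a hz * eich e z' a' hz' =
      eich e (z + z') (a + a' + B z' z) (by rw [form_add_left, hz, hz', add_zero]) := by
  refine Qsub_ext hfe (mul_mem (eich_mem_Qsub _ _ _ hz) (eich_mem_Qsub _ _ _ hz'))
    (eich_mem_Qsub _ _ _ _) ?_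
  rw [mul_mulVec', eich_mulVec_f hfe hz' hzf', eich_mulVec_f hfe _ (by rw [form_add_left, hzf, hzf', add_zero]),
    Matrix.mulVec_add, Matrix.mulVec_add, Matrix.mulVec_smul, eich_mulVec_f hfe hz hzf,
    eich_mulVec, eich_mulVec, hz', form_self, form_swap_zero hz]
  module

theorem exists_eich_of_mem {e f : V} (hfe : B f e = 1) {A : Sp} (hA : A ∈ Qsub e) :
    ∃ (z : V) (a : F) (hz : B z e = 0), B z f = 0 ∧ A = eich e z a hz := by
  have hd : B (mat A *ᵥ f - f) e = 0 := by
    rw [form_sub_left, sub_eq_zero]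
    conv_lhs => rw [← hA.1, form_mulVec]
  set d := mat A *ᵥ f - f with hdd
  have hz : B (d - B f d • e) e = 0 := by
    rw [form_sub_left, form_smul_left, hd, form_self]; ring
  have hzf : B (d - B f d • e) f = 0 := by
    rw [form_sub_left, form_smul_left, form_skew f e, hfe, form_skew f d]; ring
  refine ⟨_, B f d, hz, hzf, Qsub_ext hfe hA (eich_mem_Qsub _ _ _ hz) ?_⟩
  rw [eich_mulVec_f hfe hz hzf, hdd]
  module

theorem eich_proj_inj [Finite F] (hm : 0 < m) {e f z z' : V} (hfe : B f e = 1) {hz : B z e = 0}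
    {hz' : B z' e = 0} (hzf : B z f = 0) (hzf' : B z' f = 0) {a a' : F}
    (h : proj (eich e z a hz) = proj (eich e z' a' hz')) : z = z' ∧ a = a' := by
  obtain ⟨p, hp⟩ := CharP.exists F
  have : Fact p.Prime := ⟨CharP.char_is_prime F p⟩
  have h1 := proj_injOn_pgroup hm (isPGroup_Qsub (p := p) e) (eich_mem_Qsub _ _ _ hz)
    (eich_mem_Qsub _ _ _ hz') h
  have h2 := congrArg (fun A : Sp => mat A *ᵥ f) h1
  simp only [eich_mulVec_f hfe hz hzf, eich_mulVec_f hfe hz' hzf', add_assoc, add_right_inj] at h2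
  have h3 := congrArg (fun x => B f x) h2
  simp only [form_add_right, form_smul_right, hfe, form_swap_zero hzf, form_swap_zero hzf',
    zero_add, mul_one] at h3
  rw [h3, add_left_inj] at h2
  exact ⟨h2, h3⟩

/-- The coordinate of `x` in `{e, f}⊥`. -/
def zc (e f x : V) : V := x - B f x • e - B x e • f

theorem zc_mem {e f : V} (hfe : B f e = 1) (x : V) : B (zc e f x) e = 0 ∧ B (zc e f x) f = 0 := by
  constructor <;>
  simp only [zc, form_sub_left, form_smul_left, form_self, hfe, form_skew f e, form_skew f x] <;> ring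

theorem zc_form {e f : V} (hfe : B f e = 1) (x y : V) :
    B (zc e f x) (zc e f y) = B x y + B f x * B y e - B x e * B f y := by
  simp only [zc, form_sub_left, form_sub_right, form_smul_left, form_smul_right, form_self, hfe,
    form_skew f e, form_skew y e, form_skew f x]
  ring

variable [Fintype F]

/-- An automorphism fixing two non-orthogonal points agrees with a standard one on the radical. -/
theorem exists_std (hm : 2 ≤ m) {e f : V} (hfe : B f e = 1) {β : MulAut PSp'} (hβ : Pres β)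
    (he : (tbar e).map β.toMonoidHom = tbar e) (hf : (tbar f).map β.toMonoidHom = tbar f) :
    ∃ (g : GS) (τ : RingAut F), (∀ x ∈ qbar e, (std g τ) x = β x) ∧
      (tbar e).map (std g τ).toMonoidHom = tbar e ∧
      (tbar f).map (std g τ).toMonoidHom = tbar f := by
  classical
  obtain ⟨p, hp⟩ := CharP.exists F
  have : Fact p.Prime := ⟨CharP.char_is_prime F p⟩
  let W := {z : V // B z e = 0 ∧ B z f = 0}
  have himg : ∀ (z : W) (a : F), ∃ (w : W) (b : F),
      β (proj (eich e z.1 a z.2.1)) = proj (eich e w.1 b w.2.1) := fun z a => by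
    obtain ⟨A, hA, hAe⟩ := map_qbar_le (p := p) hm hfe hβ he
      (Subgroup.mem_map_of_mem proj (eich_mem_Qsub e z.1 a z.2.1) : _ ∈ qbar e)
    obtain ⟨w, b, hw, hwf, rfl⟩ := exists_eich_of_mem hfe hA
    exact ⟨⟨w, hw, hwf⟩, b, hAe.symm⟩
  choose φ₂ δ hδ using himg
  have hm0 : 0 < m := by omega
  -- images of the points `f + z + a e`
  have hpt : ∀ (z : W) (a : F), (tbar (f + z.1 + a • e)).map β.toMonoidHom =
      tbar (f + (φ₂ z a).1 + δ z a • e) := fun z a => by
    rw [← eich_mulVec_f hfe z.2.1 z.2.2 a, ← map_conj_tbar, ← map_map_conj, hf, hδ, map_conj_tbar,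
      eich_mulVec_f hfe (φ₂ z a).2.1 (φ₂ z a).2.2]
  have horth : ∀ (z z' : W) (a a' : F), a' - a + B z.1 z'.1 = 0 ↔
      δ z' a' - δ z a + B (φ₂ z a).1 (φ₂ z' a').1 = 0 := by
    have expand : ∀ (z z' : W) (a a' : F),
        B (f + z.1 + a • e) (f + z'.1 + a' • e) = a' - a + B z.1 z'.1 := fun z z' a a' => by
      simp only [form_add_left, form_add_right, form_smul_left, form_smul_right, form_self, hfe,
        z.2.1, z.2.2, form_swap_zero z'.2.1, form_swap_zero z'.2.2, form_skew f e]
      ring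
    intro z z' a a'
    rw [← expand, ← expand, ← comm_iff hm, ← comm_iff hm, ← comm_map β (hpt z a) (hpt z' a')]
  let zero : W := ⟨0, form_zero_left e, form_zero_left f⟩
  let add : W → W → W := fun z z' => ⟨z.1 + z'.1, by rw [form_add_left, z.2.1, z'.2.1, add_zero],
    by rw [form_add_left, z.2.2, z'.2.2, add_zero]⟩
  have hmul : ∀ (z z' : W) (a a' : F),
      (φ₂ (add z z') (a + a' + B z'.1 z.1)).1 = (φ₂ z a).1 + (φ₂ z' a').1 ∧
      δ (add z z') (a + a' + B z'.1 z.1) = δ z a + δ z' a' + B (φ₂ z' a').1 (φ₂ z a).1 :=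
    fun z z' a a' => by
    refine eich_proj_inj hm0 hfe (hz := (φ₂ _ _).2.1)
      (hz' := by rw [form_add_left, (φ₂ z a).2.1, (φ₂ z' a').2.1, add_zero]) (φ₂ _ _).2.2
      (by rw [form_add_left, (φ₂ z a).2.2, (φ₂ z' a').2.2, add_zero]) ?_
    rw [← hδ, ← eich_mul hfe (φ₂ z a).2.1 (φ₂ z' a').2.1 (φ₂ z a).2.2 (φ₂ z' a').2.2, map_mul,
      ← hδ, ← hδ, ← map_mul, ← map_mul, eich_mul hfe z.2.1 z'.2.1 z.2.2 z'.2.2]
  have hinj : ∀ (z z' : W) (a a' : F), φ₂ z a = φ₂ z' a' → δ z a = δ z' a' → z = z' ∧ a = a' := by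
    intro z z' a a' h1 h2
    have h := hδ z a
    rw [show (eich e (φ₂ z a).1 (δ z a) (φ₂ z a).2.1) =
      eich e (φ₂ z' a').1 (δ z' a') (φ₂ z' a').2.1 by simp only [h1, h2]] at h
    obtain ⟨hz, ha⟩ := eich_proj_inj hm0 hfe z.2.2 z'.2.2 (β.injective (h.trans (hδ z' a').symm))
    exact ⟨Subtype.ext hz, ha⟩
  -- `f + a e` maps to `f + ψ a e`
  have hzero : ∀ a, φ₂ zero a = zero := fun a => by
    have h1 : β (proj (eich e zero.1 a zero.2.1)) ∈ tbar e := by
      rw [← he, show eich e zero.1 a zero.2.1 = tv e a from ext_mulVec fun x => by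
        rw [eich_mulVec, tv_mulVec]; simp [zero, form_zero_right]]
      exact Subgroup.mem_map_of_mem β.toMonoidHom (tv_mem_tbar e a)
    obtain ⟨_, ⟨c, rfl⟩, hc⟩ := h1
    rw [hδ, show tv e c = eich e zero.1 c zero.2.1 from ext_mulVec fun x => by
        rw [eich_mulVec, tv_mulVec]; simp [zero, form_zero_right]] at hc
    exact (Subtype.ext (eich_proj_inj hm0 hfe zero.2.2 (φ₂ zero a).2.2 hc).1).symm
  have hadd0 : ∀ z, add z zero = z := fun z => Subtype.ext (add_zero z.1)
  let ψ : F → F := fun a => δ zero a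
  let φ : W → W := fun z => φ₂ z 0
  have hzero1 : ∀ a, (φ₂ zero a).1 = 0 := fun a => by rw [hzero]
  have hφ₂ : ∀ z a, φ₂ z a = φ z := fun z a => Subtype.ext (by
    have h := (hmul z zero 0 a).1
    rw [hadd0, hzero1, show B zero.1 z.1 = 0 from form_zero_left _, zero_add, add_zero, add_zero] at h
    exact h)
  have hδψ : ∀ z a, δ z a = ψ a := fun z a => by
    have h := (horth zero z a a).1 (by
      show a - a + B (0 : V) z.1 = 0
      rw [form_zero_left]; ring)
    rw [hzero1, form_zero_left, add_zero, sub_eq_zero] at h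
    exact h
  have hψadd : ∀ a b, ψ (a + b) = ψ a + ψ b := fun a b => by
    have h := (hmul zero zero a b).2
    rw [hadd0, hzero1, hzero1, show B zero.1 zero.1 = 0 from form_self _, add_zero,
      add_zero] at h
    exact h
  have hψ0 : ψ 0 = 0 := by have h := hψadd 0 0; rwa [add_zero, eq_comm, add_eq_left] at h
  have hψinj : Function.Injective ψ := fun a b h =>
    (hinj zero zero a b (by rw [hzero, hzero]) h).2
  have hφadd : ∀ z z', (φ (add z z')).1 = (φ z).1 + (φ z').1 := fun z z' => by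
    have h := (hmul z z' 0 0).1
    rwa [hφ₂] at h
  have hφbij : Function.Bijective φ := Finite.injective_iff_bijective.1 fun z z' h =>
    (hinj z z' 0 0 h (by rw [hδψ, hδψ])).1
  have hform : ∀ z z', B (φ z).1 (φ z').1 = ψ (B z.1 z'.1) := fun z z' => by
    have h := (horth z z' (B z.1 z'.1) 0).1 (by ring)
    rw [hδψ, hδψ, hψ0, hφ₂] at h
    linear_combination h
  let zW : V → W := fun x => ⟨zc e f x, zc_mem hfe x⟩
  have hzW : ∀ z : W, zc e f z.1 = z.1 := fun z => by
    simp [zc, z.2.1, form_swap_zero z.2.2]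
  have hsep : ∀ u v : W, (∀ z : W, B (φ z).1 u.1 = B (φ z).1 v.1) → u.1 = v.1 := fun u v h => by
    refine ext_form fun x => ?_
    obtain ⟨z, hz⟩ := hφbij.2 (zW x)
    have h' := h z
    rw [hz] at h'
    change B (zc e f x) _ = B (zc e f x) _ at h'
    rw [← hzW u, ← hzW v, zc_form hfe, zc_form hfe, u.2.1, v.2.1, form_swap_zero u.2.2,
      form_swap_zero v.2.2] at h'
    rw [form_skew x, form_skew x]
    linear_combination -h'
  have hpartner : ∀ z : W, z.1 ≠ 0 → ∃ z0 : W, B z0.1 z.1 = 1 := fun z hz => by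
    obtain ⟨y, hy⟩ := exists_dual hz
    refine ⟨zW y, ?_⟩
    show B (zc e f y) z.1 = 1
    rw [← hzW z, zc_form hfe, z.2.1, form_swap_zero z.2.2, hy]
    ring
  let k := ψ 1
  have hk : k ≠ 0 := fun h => one_ne_zero (hψinj (h.trans hψ0.symm))
  let τf : F → F := fun c => ψ c / k
  let smul : F → W → W := fun c z => ⟨c • z.1, by rw [form_smul_left, z.2.1, mul_zero],
    by rw [form_smul_left, z.2.2, mul_zero]⟩
  have hsmul : ∀ c z, (φ (smul c z)).1 = τf c • (φ z).1 := by
    intro c z
    by_cases hz : z.1 = 0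
    · have e1 : z = zero := Subtype.ext hz
      have e2 : smul c z = zero := Subtype.ext (by show c • z.1 = 0; rw [hz, smul_zero])
      rw [e2, e1, show φ zero = zero from hzero 0]
      exact (smul_zero _).symm
    obtain ⟨z0, hz0⟩ := hpartner z hz
    refine hsep _ (smul (τf c) (φ z)) fun u => ?_
    show _ = B (φ u).1 (τf c • (φ z).1)
    rw [form_smul_right]
    set s := B (φ u).1 (φ z).1 / k with hs
    obtain ⟨u', hu'⟩ := hφbij.2 (add (φ u) (smul (-s) (φ z0)))
    have hu'' : (φ u').1 = (φ u).1 + (-s) • (φ z0).1 := congrArg Subtype.val hu'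
    have hk0 : B (φ z0).1 (φ z).1 = k := by rw [hform, hz0]
    have h0 : B (φ u').1 (φ z).1 = 0 := by
      rw [hu'', form_add_left, form_smul_left, hk0, hs, neg_mul, div_mul_cancel₀ _ hk, add_neg_cancel]
    rw [hform] at h0
    have h1 : B (φ u').1 (φ (smul c z)).1 = 0 := by
      rw [hform]
      show ψ (B u'.1 (c • z.1)) = 0
      rw [form_smul_right, hψinj (h0.trans hψ0.symm), mul_zero, hψ0]
    rw [hu'', form_add_left, form_smul_left] at h1
    have h2 : B (φ z0).1 (φ (smul c z)).1 = ψ c := by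
      rw [hform]
      show ψ (B z0.1 (c • z.1)) = _
      rw [form_smul_right, hz0, mul_one]
    rw [h2] at h1
    simp only [τf]
    rw [hs] at h1
    linear_combination h1
  obtain ⟨z1, hz1, hz1e, hz1f⟩ := exists_perp_two hm e f
  let Z1 : W := ⟨z1, hz1e, hz1f⟩
  have hφz1 : (φ Z1).1 ≠ 0 := fun h => hz1 (congrArg Subtype.val
    (hφbij.1 (Subtype.ext (h.trans (hzero1 0).symm) : φ Z1 = φ zero)))
  have hτmul : ∀ a b, τf (a * b) = τf a * τf b := fun a b => by
    have h := hsmul (a * b) Z1
    rw [show smul (a * b) Z1 = smul a (smul b Z1) from Subtype.ext (mul_smul a b z1), hsmul, hsmul,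
      smul_smul] at h
    exact (smul_left_injective F hφz1 h).symm
  have hτinj : Function.Injective τf := fun a b h => hψinj (mul_right_cancel₀ (inv_ne_zero hk)
    (by simpa [τf, div_eq_mul_inv] using h))
  let τ : RingAut F :=
    { Equiv.ofBijective τf (Finite.injective_iff_bijective.1 hτinj) with
      map_mul' := hτmul
      map_add' := fun a b => by
        show ψ (a + b) / k = ψ a / k + ψ b / k
        rw [hψadd, add_div] }
  have hψτ : ∀ a, ψ a = k * τ a := fun a => (mul_div_cancel₀ _ hk).symm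
  let G : V → V := fun x => (k * τ (B f x)) • e + τ (B x e) • f + (φ (zW x)).1
  have hGadd : ∀ x y, G (x + y) = G x + G y := fun x y => by
    have e1 : zW (x + y) = add (zW x) (zW y) := Subtype.ext (by
      simp only [zW, add, zc, form_add_left, form_add_right]; module)
    simp only [G, e1, hφadd, form_add_left, form_add_right, map_add]
    module
  have hGsmul : ∀ c x, G (c • x) = τ c • G x := fun c x => by
    have e1 : zW (c • x) = smul c (zW x) := Subtype.ext (by
      simp only [zW, smul, zc, form_smul_left, form_smul_right]; module)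
    simp only [G, e1, hsmul, form_smul_left, form_smul_right, map_mul]
    rw [show τf c = τ c from rfl]
    module
  have hGform : ∀ x y, B (G x) (G y) = k * τ (B x y) := fun x y => by
    have h3 : B (φ (zW x)).1 (φ (zW y)).1 = k * τ (B x y + B f x * B y e - B x e * B f y) := by
      rw [hform, hψτ]; exact congrArg (k * τ ·) (zc_form hfe x y)
    simp only [map_add, map_sub, map_mul] at h3
    simp only [G, form_add_left, form_add_right, form_smul_left, form_smul_right, form_self, hfe,
      form_skew f e, (φ (zW x)).2.1, (φ (zW x)).2.2, form_swap_zero (φ (zW y)).2.1,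
      form_swap_zero (φ (zW y)).2.2]
    linear_combination h3
  let L : V →ₗ[F] V :=
    { toFun := fun y => G (τ.symm ∘ y)
      map_add' := fun y y' => by
        rw [← hGadd]; exact congrArg G (funext fun i => map_add τ.symm _ _)
      map_smul' := fun c y => by
        rw [RingHom.id_apply]
        refine Eq.trans ?_ ((hGsmul (τ.symm c) _).trans (by rw [τ.apply_symm_apply]))
        exact congrArg G (funext fun i => map_mul τ.symm _ _) }
  have hLform : ∀ u v, B (L u) (L v) = k * B u v := fun u v => by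
    show B (G (τ.symm ∘ u)) (G (τ.symm ∘ v)) = _
    rw [hGform, form_map, τ.apply_symm_apply]
  have hLinj : Function.Injective L := fun u v h => ext_form fun x => by
    have h1 := hLform u x
    rw [h, hLform] at h1
    exact (mul_left_cancel₀ hk h1).symm
  have hunit : IsUnit (LinearMap.toMatrix' L) := Matrix.mulVec_injective_iff_isUnit.1 (by
    intro u v h
    exact hLinj (by simpa [LinearMap.toMatrix'_mulVec] using h))
  have hLu : ∀ v, (hunit.unit : Matrix (Fin m ⊕ Fin m) (Fin m ⊕ Fin m) F) *ᵥ v = L v := fun v => by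
    rw [IsUnit.unit_spec, LinearMap.toMatrix'_mulVec]
  let g : GS := ⟨hunit.unit, Units.mk0 k hk, fun u v => by rw [hLu, hLu, hLform]; rfl⟩
  have hmult : (mult g : F) = k := mult_eq hm0 fun u v => by
    show B ((hunit.unit : Matrix (Fin m ⊕ Fin m) (Fin m ⊕ Fin m) F) *ᵥ u) _ = _
    rw [hLu, hLu, hLform]
  have hsemi : ∀ x, semi g τ x = G x := fun x => by
    show (hunit.unit : Matrix (Fin m ⊕ Fin m) (Fin m ⊕ Fin m) F) *ᵥ (τ ∘ x) = _
    rw [hLu]
    exact congrArg G (funext fun i => τ.symm_apply_apply _)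
  have hzWe : zW e = zero := Subtype.ext (by
    show zc e f e = 0
    simp [zc, hfe, form_self])
  have hzWf : zW f = zero := Subtype.ext (by
    show zc e f f = 0
    simp [zc, hfe, form_self])
  have hGe : semi g τ e = k • e := by
    rw [hsemi]
    simp [G, hzWe, φ, hzero1, hfe, form_self]
  have hGf : semi g τ f = f := by
    rw [hsemi]
    simp [G, hzWf, φ, hzero1, hfe, form_self]
  refine ⟨g, τ, fun x hx => ?_, by rw [std_tbar, hGe, tbar_smul hk], by rw [std_tbar, hGf]⟩
  obtain ⟨A, hA, rfl⟩ := hx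
  obtain ⟨z, a, hz, hzf, rfl⟩ := exists_eich_of_mem hfe hA
  have hz' : zW z = ⟨z, hz, hzf⟩ := Subtype.ext (hzW ⟨z, hz, hzf⟩)
  have hGz : semi g τ z = (φ ⟨z, hz, hzf⟩).1 := by
    rw [hsemi]
    simp [G, hz', hz, form_swap_zero hzf]
  rw [hδ ⟨z, hz, hzf⟩ a, hφ₂, hδψ]
  refine std_proj fun y => ?_
  have hGye : B (semi g τ y) e = τ (B y e) := by
    have h := semi_form g τ y e
    rw [hGe, form_smul_right, hmult] at h
    exact mul_left_cancel₀ hk h
  have hGyz : B (semi g τ y) (φ ⟨z, hz, hzf⟩).1 = k * τ (B y z) := by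
    rw [← hGz, semi_form, hmult]
  rw [eich_mulVec, eich_mulVec, hGye, hGyz, hψτ]
  simp only [hsemi] at hGe hGz ⊢
  rw [hGadd, hGadd, hGsmul, hGsmul, hGe, hGz, map_add, map_mul]
  module

end CfsgLib.AutPSp
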