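import Cfsg.Agent.AutPSp.Pres
set_option autoImplicit false

/-!
The unipotent radical of a point stabiliser in `PSp_2m(F)`, described through transvection groups.
-/

namespace CfsgLib.AutPSp

open Matrix
open CfsgLib.SpGeom
open scoped Pointwise

variable {F : Type*} [Field F] {m : ℕ}

local notation "V" => (Fin m ⊕ Fin m → F)
local notation "Sp" => Matrix.symplecticGroup (Fin m) F
local notation "PSp'" => Cfsg.PSp m F
local notation "B" => Cfsg.sympForm m F
local notation "mat" A:max => ((A : Sp) : Matrix (Fin m ⊕ Fin m) (Fin m ⊕ Fin m) F)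

/-- The image of `Qsub e` in `PSp`. -/
def qbar (e : V) : Subgroup PSp' := (Qsub e).map proj

/-- Elements of `Qsub e` are determined by the image of a vector not orthogonal to `e`. -/
theorem Qsub_ext {e f : V} (hfe : B f e = 1) {A A' : Sp} (hA : A ∈ Qsub e) (hA' : A' ∈ Qsub e)
    (h : mat A *ᵥ f = mat A' *ᵥ f) : A = A' := by
  have key : ∀ {A : Sp}, A ∈ Qsub e → ∀ x, B x e = 0 →
      mat A *ᵥ x = x + B x (mat A *ᵥ f - f) • e := by
    intro A hA x hx
    obtain ⟨k, hk⟩ := hA.2 x hx
    have e1 := form_mulVec A x f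
    rw [hk, form_add_left, form_smul_left] at e1
    have e2 : B e (mat A *ᵥ f) = -1 := by
      conv_lhs => rw [← hA.1]
      rw [form_mulVec, form_skew, hfe]
    rw [e2] at e1
    rw [hk, form_sub_right]
    congr 2
    linear_combination -e1
  refine ext_mulVec fun x => ?_
  have hx : B (x - B x e • f) e = 0 := by
    rw [form_sub_left, form_smul_left, hfe, mul_one, sub_self]
  have h1 := key hA _ hx
  have h2 := key hA' _ hx
  rw [← h, ← h1, Matrix.mulVec_sub, Matrix.mulVec_sub, Matrix.mulVec_smul, Matrix.mulVec_smul,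
    h] at h2
  exact (sub_left_inj.1 h2).symm

/-- The intrinsic characterisation of `qbar e`. -/
def QProp (p : ℕ) (e : V) (x : PSp') : Prop :=
  (tbar e).map (MulAut.conj x).toMonoidHom = tbar e ∧ (∃ k : ℕ, x ^ p ^ k = 1) ∧
    ∀ v : V, v ≠ 0 → Comm v e → ∀ u : V, u ≠ 0 → Comm u e → Comm u v →
      ∀ w : V, w ≠ 0 → (tbar v).map (MulAut.conj x).toMonoidHom = tbar w → Comm u w

theorem eq_of_tbar_eq (hm : 2 ≤ m) {v w : V} (hv : v ≠ 0) (h : tbar v = tbar w) {u : V} :
    B u v = 0 ↔ B u w = 0 := by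
  obtain ⟨a, ha, rfl⟩ := tbar_eq_imp hm hv h
  rw [form_smul_right, mul_eq_zero]
  simp [ha]

theorem qprop_of_mem (hm : 2 ≤ m) {p : ℕ} [Fact p.Prime] [CharP F p] {e : V}
    {x : PSp'} (hx : x ∈ qbar e) : QProp p e x := by
  obtain ⟨A, hA, rfl⟩ := hx
  refine ⟨by rw [map_conj_tbar, hA.1], ?_, fun v _ hve u _ hue huv w hw h => ?_⟩
  · obtain ⟨k, hk⟩ := isPGroup_Qsub (p := p) e ⟨A, hA⟩
    exact ⟨k, by rw [← map_pow, show A ^ p ^ k = 1 from congrArg Subtype.val hk, map_one]⟩
  rw [comm_iff hm] at hve hue huv ⊢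
  rw [map_conj_tbar] at h
  obtain ⟨k, hk⟩ := hA.2 v hve
  rw [eq_of_tbar_eq hm hw h.symm, hk, form_add_right, form_smul_right, huv, hue, mul_zero, add_zero]

theorem mem_of_qprop (hm : 2 ≤ m) {p : ℕ} [Fact p.Prime] [CharP F p] {e f : V} (hfe : B f e = 1)
    {x : PSp'} (hx : QProp p e x) : x ∈ qbar e := by
  obtain ⟨A, rfl⟩ := proj_surjective x
  obtain ⟨h1, ⟨k, hk⟩, h3⟩ := hx
  have he : e ≠ 0 := by rintro rfl; simp [form_zero_right] at hfe
  rw [map_conj_tbar] at h1
  obtain ⟨l, hl, hAe⟩ := tbar_eq_imp hm (mulVec_ne_zero A he) h1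
  have hspan : ∀ v, B v e = 0 → ∃ a b : F, mat A *ᵥ v = a • v + b • e := by
    intro v hv
    rcases eq_or_ne v 0 with rfl | hv0
    · exact ⟨0, 0, by simp⟩
    have hAv : mat A *ᵥ v ∈ Submodule.span F (Set.range ![v, e]) := by
      by_contra hnot
      obtain ⟨u, hu, huA⟩ := exists_perp_sep hnot
      have hu0 : u ≠ 0 := fun h => huA (by rw [h, form_zero_left])
      exact huA ((comm_iff hm).1 (h3 v hv0 ((comm_iff hm).2 hv) u hu0 ((comm_iff hm).2 (hu 1))
        ((comm_iff hm).2 (hu 0)) _ (mulVec_ne_zero A hv0) (map_conj_tbar A v)))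
    rw [Matrix.range_cons_cons_empty, Submodule.mem_span_pair] at hAv
    obtain ⟨a, b, hab⟩ := hAv
    exact ⟨a, b, hab.symm⟩
  -- a hyperbolic pair of `{e, f}⊥`
  have hef : B e f = -1 := by rw [form_skew, hfe]
  obtain ⟨z1, hz1, hz1e, hz1f⟩ := exists_perp_two hm e f
  obtain ⟨y, hy⟩ := exists_dual hz1
  set z2 := y - B y e • f + B y f • e with hz2
  have hz2e : B z2 e = 0 := by
    rw [hz2, form_add_left, form_sub_left, form_smul_left, form_smul_left, hfe, form_self]; ring
  have hz2f : B z2 f = 0 := by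
    rw [hz2, form_add_left, form_sub_left, form_smul_left, form_smul_left, hef, form_self]; ring
  have h21 : B z2 z1 = 1 := by
    rw [hz2, form_add_left, form_sub_left, form_smul_left, form_smul_left, hy,
      form_swap_zero hz1e, form_swap_zero hz1f]; ring
  obtain ⟨a1, b1, hA1⟩ := hspan z1 hz1e
  obtain ⟨a2, b2, hA2⟩ := hspan z2 hz2e
  have pairing : ∀ {u u' : V} {a a' b b' : F}, B u e = 0 → B u' e = 0 →
      mat A *ᵥ u = a • u + b • e → mat A *ᵥ u' = a' • u' + b' • e → a * a' * B u u' = B u u' := by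
    intro u u' a a' b b' hu hu' h h'
    have e1 := form_mulVec A u u'
    rw [h, h'] at e1
    simp only [form_add_left, form_add_right, form_smul_left, form_smul_right, form_self, hu,
      form_swap_zero hu'] at e1
    linear_combination e1
  have h12 : a1 * a2 = 1 := by
    have := pairing hz1e hz2e hA1 hA2
    rw [form_skew z2 z1, h21] at this
    linear_combination -this
  have ha12 : a1 = a2 := by
    obtain ⟨a, b, hab⟩ := hspan (z1 + z2) (by rw [form_add_left, hz1e, hz2e, add_zero])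
    rw [Matrix.mulVec_add, hA1, hA2] at hab
    have e1 := congrArg (fun z => B z2 z) hab
    have e2 := congrArg (fun z => B z z1) hab
    simp only [form_add_left, form_add_right, form_smul_left, form_smul_right, h21, form_self,
      hz2e, form_swap_zero hz1e] at e1 e2
    linear_combination e1 - e2
  rw [← ha12] at h12
  -- every vector orthogonal to `e` has the same eigenvalue
  have step : ∀ v, B v e = 0 → (B v z1 ≠ 0 ∨ B v z2 ≠ 0) →
      ∃ b : F, mat A *ᵥ v = a1 • v + b • e := by
    intro v hv hne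
    obtain ⟨a, b, hab⟩ := hspan v hv
    refine ⟨b, ?_⟩
    have ha : a * a1 = 1 := by
      rcases hne with hne | hne
      · exact mul_right_cancel₀ hne ((pairing hv hz1e hab hA1).trans (one_mul _).symm)
      · rw [ha12]; exact mul_right_cancel₀ hne ((pairing hv hz2e hab hA2).trans (one_mul _).symm)
    rw [hab, show a = a1 by linear_combination a1 * ha - a * h12]
  have scalar : ∀ v, B v e = 0 → ∃ b : F, mat A *ᵥ v = a1 • v + b • e := by
    intro v hv
    by_cases hne : B v z1 ≠ 0 ∨ B v z2 ≠ 0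
    · exact step v hv hne
    push Not at hne
    obtain ⟨b, hb⟩ := step (v + z1) (by rw [form_add_left, hv, hz1e, add_zero]) (Or.inr (by
      rw [form_add_left, hne.2, zero_add, form_skew, h21]; exact neg_ne_zero.2 one_ne_zero))
    refine ⟨b - b1, ?_⟩
    rw [Matrix.mulVec_add, hA1] at hb
    linear_combination (norm := module) hb
  -- normalise the sign
  obtain ⟨A', hA'p, hA'⟩ : ∃ A' : Sp, proj A' = proj A ∧
      ∀ v, mat A' *ᵥ v = a1 • (mat A *ᵥ v) := by
    let Z : Sp := ⟨a1 • 1, mem_of_form fun u v => by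
      simp only [Matrix.smul_mulVec, Matrix.one_mulVec, form_smul_left, form_smul_right,
        ← mul_assoc, h12, one_mul]⟩
    have hZ : ∀ v, mat Z *ᵥ v = a1 • v := fun v => by
      rw [show mat Z = a1 • 1 from rfl, Matrix.smul_mulVec, Matrix.one_mulVec]
    refine ⟨Z * A, ?_, fun v => by rw [mul_mulVec', hZ]⟩
    exact (proj_eq_of_smul (x := A) (c := a1) fun v => by rw [mul_mulVec', hZ]).symm
  have hQ : ∀ v, B v e = 0 → ∃ b : F, mat A' *ᵥ v = v + b • e := fun v hv => by
    obtain ⟨b, hb⟩ := scalar v hv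
    exact ⟨a1 * b, by rw [hA', hb, smul_add, smul_smul, smul_smul, h12, one_smul]⟩
  have hl' : mat A' *ᵥ e = (a1 * l) • e := by rw [hA', hAe, smul_smul]
  have hl1 : a1 * l = 1 := by
    refine eq_one_of_pow_char_pow (p := p) (k := k) ?_
    have hcen : proj (A' ^ p ^ k) = proj 1 := by rw [map_pow, hA'p, hk, map_one]
    obtain ⟨c, -, hc⟩ := exists_sign_of_proj_eq (by omega) hcen.symm
    have hz : ∀ n : ℕ, ∃ b : F, mat (A' ^ n) *ᵥ z1 = z1 + b • e := by
      intro n
      induction n with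
      | zero => exact ⟨0, by rw [pow_zero, one_mulVec', zero_smul, add_zero]⟩
      | succ n ih =>
        obtain ⟨b, hb⟩ := ih
        obtain ⟨b', hb'⟩ := hQ z1 hz1e
        exact ⟨b + b' * (a1 * l) ^ n, by
          rw [pow_succ, mul_mulVec', hb', Matrix.mulVec_add, hb, Matrix.mulVec_smul,
            pow_eigen hl' n, smul_smul, add_smul, add_assoc]⟩
    obtain ⟨b, hb⟩ := hz (p ^ k)
    rw [hc, one_mulVec'] at hb
    have hc1 : c = 1 := by
      have e1 := congrArg (fun z => B z2 z) hb
      simp only [form_add_right, form_smul_right, h21, hz2e, mul_zero, add_zero, mul_one] at e1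
      exact e1
    have e2 := pow_eigen hl' (p ^ k)
    rw [hc, one_mulVec', hc1] at e2
    have e3 := congrArg (fun z => B f z) e2
    simp only [form_smul_right, hfe, mul_one] at e3
    exact e3.symm
  exact ⟨A', ⟨by rw [hl', hl1, one_smul], hQ⟩, hA'p⟩

theorem map_map_conj (β : MulAut PSp') (x : PSp') (K : Subgroup PSp') :
    (K.map β.toMonoidHom).map (MulAut.conj (β x)).toMonoidHom =
      (K.map (MulAut.conj x).toMonoidHom).map β.toMonoidHom := by
  rw [Subgroup.map_map, Subgroup.map_map]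
  congr 1
  exact MonoidHom.ext fun y => by simp

theorem comm_map (β : MulAut PSp') {v w v' w' : V} (hv : (tbar v).map β.toMonoidHom = tbar v')
    (hw : (tbar w).map β.toMonoidHom = tbar w') : Comm v' w' ↔ Comm v w := by
  constructor
  · intro h x hx y hy
    refine β.injective ?_
    rw [map_mul, map_mul]
    exact h _ (hv ▸ Subgroup.mem_map_of_mem β.toMonoidHom hx) _
      (hw ▸ Subgroup.mem_map_of_mem β.toMonoidHom hy)
  · intro h x hx y hy
    rw [← hv] at hx
    rw [← hw] at hy
    obtain ⟨a, ha, rfl⟩ := hx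
    obtain ⟨b, hb, rfl⟩ := hy
    rw [← map_mul, ← map_mul, h a ha b hb]

theorem map_qbar_le [Finite F] (hm : 2 ≤ m) {p : ℕ} [Fact p.Prime] [CharP F p] {e f : V}
    (hfe : B f e = 1) {β : MulAut PSp'} (hβ : Pres β) (he : (tbar e).map β.toMonoidHom = tbar e)
    {x : PSp'} (hx : x ∈ qbar e) : β x ∈ qbar e := by
  obtain ⟨h1, ⟨k, hk⟩, h3⟩ := qprop_of_mem (p := p) hm hx
  refine mem_of_qprop (p := p) hm hfe ⟨?_, ⟨k, by rw [← map_pow, hk, map_one]⟩, ?_⟩
  · conv_lhs => rw [← he]
    rw [map_map_conj, h1, he]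
  intro v hv hve u hu hue huv w hw hvw
  have hinv : ∀ {v v' : V}, (tbar v).map β⁻¹.toMonoidHom = tbar v' →
      (tbar v').map β.toMonoidHom = tbar v := fun {v v'} h => by
    rw [← h, Subgroup.map_map]
    convert Subgroup.map_id _
    exact MonoidHom.ext fun y => β.apply_symm_apply y
  obtain ⟨v', hv', hv''⟩ := hβ.inv v hv
  obtain ⟨u', hu', hu''⟩ := hβ.inv u hu
  obtain ⟨w', hw', hw''⟩ := hβ.inv w hw
  refine (comm_map β (hinv hu'') (hinv hw'')).2 ?_
  refine h3 v' hv' ((comm_map β (hinv hv'') he).1 hve) u' hu'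
    ((comm_map β (hinv hu'') he).1 hue) ((comm_map β (hinv hu'') (hinv hv'')).1 huv) w' hw' ?_
  refine Subgroup.map_injective (f := β.toMonoidHom) β.injective ?_
  rw [← map_map_conj, hinv hv'', hvw, hinv hw'']

end CfsgLib.AutPSp
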