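import Cfsg.Agent.AutPSp.Basic
import Cfsg.Agent.SpGeom.Parabolic
set_option autoImplicit false

/-!
Transvection groups of `PSp_2m(F)`, centres of Sylow subgroups, and their behaviour under automorphisms.
-/

namespace CfsgLib.AutPSp

open Matrix
open CfsgLib.SpGeom
open scoped Pointwise

variable {F : Type*} [Field F] {m : ℕ}

local notation "V" => (Fin m ⊕ Fin m → F)
local notation "Sp" => Matrix.symplecticGroup (Fin m) F
local notation "PSp'" => Cfsg.PSp m F
local notation "B" => Cfsg.sympForm m F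
local notation "mat" A:max => ((A : Sp) : Matrix (Fin m ⊕ Fin m) (Fin m ⊕ Fin m) F)

theorem mem_tsub {v : V} {A : Sp} : A ∈ tsub v ↔ ∃ c : F, A = tv v c := Iff.rfl

/-- The transvection group of a point in `PSp`. -/
def tbar (v : V) : Subgroup PSp' := (tsub v).map proj

theorem tbar_smul {a : F} (ha : a ≠ 0) (v : V) : tbar (a • v) = tbar v := by
  rw [tbar, tbar, tsub_smul_vec ha]

theorem tv_mem_tbar (v : V) (c : F) : proj (tv v c) ∈ tbar v :=
  Subgroup.mem_map_of_mem _ ⟨c, rfl⟩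

theorem map_conj_proj (A : Sp) (K : Subgroup Sp) :
    (MulAut.conj A • K).map (proj (F := F) (m := m)) = MulAut.conj (proj A) • K.map proj := by
  ext x
  simp only [Subgroup.mem_map, Subgroup.mem_pointwise_smul_iff_inv_smul_mem,
    MulAut.smul_def, MulAut.inv_apply, MulAut.conj_symm_apply]
  constructor
  · rintro ⟨b, hb, rfl⟩
    exact ⟨A⁻¹ * b * A, hb, by simp⟩
  · rintro ⟨b, hb, hx⟩
    exact ⟨A * b * A⁻¹, by simpa [mul_assoc] using hb, by rw [map_mul, map_mul, map_inv, hx]; group⟩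

theorem tbar_conj (A : Sp) (v : V) : tbar (mat A *ᵥ v) = MulAut.conj (proj A) • tbar v := by
  rw [tbar, tbar, tsub_conj, map_conj_proj]

/-- A nonzero vector orthogonal to fewer than `2m` given vectors. -/
theorem exists_perp {k : ℕ} (w : Fin k → V) (hk : k < 2 * m) :
    ∃ x : V, x ≠ 0 ∧ ∀ i, B x (w i) = 0 := by
  let φ : V →ₗ[F] (Fin k → F) := LinearMap.pi fun i => dualOf (w i)
  have h : LinearMap.ker φ ≠ ⊥ := LinearMap.ker_ne_bot_of_finrank_lt (by simp; omega)
  obtain ⟨x, hx, hx0⟩ := Submodule.exists_mem_ne_zero_of_ne_bot h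
  exact ⟨x, hx0, fun i => congrFun (LinearMap.mem_ker.1 hx) i⟩

theorem exists_perp_two (hm : 2 ≤ m) (u v : V) : ∃ x : V, x ≠ 0 ∧ B x u = 0 ∧ B x v = 0 := by
  obtain ⟨x, hx0, hx⟩ := exists_perp ![u, v] (by omega)
  exact ⟨x, hx0, hx 0, hx 1⟩

theorem exists_dual {v : V} (hv : v ≠ 0) : ∃ y : V, B y v = 1 := by
  obtain ⟨w, hw⟩ := exists_form_ne_zero hv
  exact ⟨(-(B v w))⁻¹ • w, by rw [form_smul_left, form_skew v w, inv_mul_cancel₀ (neg_ne_zero.2 hw)]⟩

theorem form_swap_zero {u v : V} (h : B u v = 0) : B v u = 0 := by rw [form_skew, h, neg_zero]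

theorem form_swap_ne {u v : V} (h : B u v ≠ 0) : B v u ≠ 0 := by rw [form_skew, neg_ne_zero]; exact h

theorem sign_eq_one {x : V} (hx : x ≠ 0) {c : F} (h : x = c • x) : c = 1 := by
  by_contra hne
  refine hx ((smul_eq_zero.1 (?_ : (c - 1) • x = 0)).resolve_left (sub_ne_zero.2 hne))
  rw [sub_smul, one_smul, ← h, sub_self]

theorem eq_smul_of_proj_tv (hm : 2 ≤ m) {v w : V} (hv0 : v ≠ 0) {c d : F} (hc : c ≠ 0)
    (h : proj (tv v c) = proj (tv w d)) : ∃ a : F, a ≠ 0 ∧ v = a • w := by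
  obtain ⟨l, -, hl⟩ := exists_sign_of_proj_eq (by omega) h
  obtain ⟨x, hx0, hxv, hxw⟩ := exists_perp_two hm v w
  have hl1 : l = 1 := sign_eq_one hx0 (by simpa [tv_fix v c hxv, tv_fix w d hxw] using hl x)
  obtain ⟨y, hy⟩ := exists_dual hv0
  have h3 := hl y
  rw [hl1, one_smul, tv_mulVec, tv_mulVec, hy, mul_one, add_right_inj] at h3
  have h4 : v = (c⁻¹ * (d * B y w)) • w := by
    rw [← smul_smul, h3, smul_smul, inv_mul_cancel₀ hc, one_smul]
  refine ⟨c⁻¹ * (d * B y w), fun h0 => hv0 ?_, h4⟩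
  rw [h4, h0, zero_smul]

theorem tbar_eq_imp (hm : 2 ≤ m) {v w : V} (hv0 : v ≠ 0) (h : tbar v = tbar w) :
    ∃ a : F, a ≠ 0 ∧ v = a • w := by
  have h1 := tv_mem_tbar v (1 : F)
  rw [h] at h1
  obtain ⟨_, ⟨d, rfl⟩, hd⟩ := h1
  exact eq_smul_of_proj_tv hm hv0 one_ne_zero hd.symm

/-- Two transvection groups commute elementwise. -/
def Comm (v w : V) : Prop := ∀ x ∈ tbar v, ∀ y ∈ tbar w, x * y = y * x

theorem comm_iff (hm : 2 ≤ m) {v w : V} : Comm v w ↔ B v w = 0 := by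
  constructor
  · intro h
    have h1 := h _ (tv_mem_tbar v 1) _ (tv_mem_tbar w 1)
    rw [← map_mul, ← map_mul] at h1
    obtain ⟨l, -, hl⟩ := exists_sign_of_proj_eq (by omega) h1
    obtain ⟨x, hx0, hxv, hxw⟩ := exists_perp_two hm v w
    have hl1 : l = 1 := sign_eq_one hx0
      (by
        have e := hl x
        rwa [mul_mulVec', mul_mulVec', tv_fix v (1 : F) hxv, tv_fix w (1 : F) hxw,
          tv_fix v (1 : F) hxv] at e)
    by_contra hvw
    have h3 := hl w
    simp only [hl1, one_smul, mul_mulVec', tv_mulVec, form_self, mul_zero, zero_smul, add_zero,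
      one_mul, form_add_left, form_smul_left, zero_add] at h3
    have h4 : (B w v * B v w) • w = 0 := by linear_combination (norm := module) h3
    rcases smul_eq_zero.1 h4 with h5 | h5
    · exact mul_ne_zero (form_swap_ne hvw) hvw h5
    · exact hvw (by rw [h5, form_zero_right])
  · intro hvw x hx y hy
    obtain ⟨_, ⟨c, rfl⟩, rfl⟩ := hx
    obtain ⟨_, ⟨d, rfl⟩, rfl⟩ := hy
    rw [← map_mul, ← map_mul]
    congr 1
    refine ext_mulVec fun z => ?_
    simp only [mul_mulVec', tv_mulVec, form_add_left, form_smul_left, hvw, form_swap_zero hvw,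
      mul_zero, add_zero]
    module

/-! ### Eichler elements -/

/-- The Eichler map. -/
def eichMap (v z : V) (a : F) : V →ₗ[F] V where
  toFun x := x + B x v • z + (a * B x v + B x z) • v
  map_add' x y := by simp only [form_add_left]; module
  map_smul' c x := by simp only [form_smul_left, RingHom.id_apply]; module

/-- The Eichler transformation `x ↦ x + B(x,v) z + (a B(x,v) + B(x,z)) v`. -/
def eich (v z : V) (a : F) (h : B z v = 0) : Sp :=
  ⟨LinearMap.toMatrix' (eichMap v z a), mem_of_form fun x y => by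
    simp only [LinearMap.toMatrix'_mulVec]
    simp only [eichMap, LinearMap.coe_mk, AddHom.coe_mk, form_add_left, form_add_right,
      form_smul_left, form_smul_right, form_self, h, form_swap_zero h,
      form_skew y v, form_skew y z]
    ring⟩

theorem eich_mulVec (v z : V) (a : F) (h : B z v = 0) (x : V) :
    mat (eich v z a h) *ᵥ x = x + B x v • z + (a * B x v + B x z) • v :=
  LinearMap.toMatrix'_mulVec (eichMap v z a) x

/-- Elements acting trivially on `v` and on `v⊥ / v`. -/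
def Qsub (v : V) : Subgroup Sp where
  carrier := {A | mat A *ᵥ v = v ∧ ∀ x, B x v = 0 → ∃ k : F, mat A *ᵥ x = x + k • v}
  one_mem' := ⟨one_mulVec' v, fun x _ => ⟨0, by rw [one_mulVec', zero_smul, add_zero]⟩⟩
  mul_mem' := by
    rintro A A' ⟨hA, hA'⟩ ⟨hB, hB'⟩
    refine ⟨by rw [mul_mulVec', hB, hA], fun x hx => ?_⟩
    obtain ⟨k, hk⟩ := hB' x hx
    obtain ⟨k', hk'⟩ := hA' x hx
    exact ⟨k' + k, by rw [mul_mulVec', hk, Matrix.mulVec_add, Matrix.mulVec_smul, hA, hk', add_smul, add_assoc]⟩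
  inv_mem' := by
    rintro A ⟨hA, hA'⟩
    have hAi : mat A⁻¹ *ᵥ v = v := by conv_lhs => rw [← hA, inv_mulVec]
    refine ⟨hAi, fun x hx => ?_⟩
    obtain ⟨k, hk⟩ := hA' x hx
    refine ⟨-k, ?_⟩
    have h : mat A⁻¹ *ᵥ (mat A *ᵥ x) = mat A⁻¹ *ᵥ x + k • v := by
      rw [hk, Matrix.mulVec_add, Matrix.mulVec_smul, hAi]
    rw [inv_mulVec] at h
    rw [neg_smul, ← sub_eq_add_neg, eq_sub_iff_add_eq, ← h]

theorem mem_Qsub {v : V} {A : Sp} :
    A ∈ Qsub v ↔ mat A *ᵥ v = v ∧ ∀ x, B x v = 0 → ∃ k : F, mat A *ᵥ x = x + k • v := Iff.rfl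

theorem eich_mem_Qsub (v z : V) (a : F) (h : B z v = 0) : eich v z a h ∈ Qsub v := by
  refine ⟨?_, fun x hx => ⟨B x z, ?_⟩⟩
  · rw [eich_mulVec, form_self, form_swap_zero h]; module
  · rw [eich_mulVec, hx]; module

theorem tv_mem_Qsub (v : V) (c : F) : tv v c ∈ Qsub v :=
  ⟨tv_fix v c (form_self v), fun x hx => ⟨0, by rw [tv_fix v c hx, zero_smul, add_zero]⟩⟩

theorem matpow_mulVec (A : Sp) (k : ℕ) : mat (A ^ k) = (mat A) ^ k := by
  induction k with
  | zero => rfl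
  | succ k ih => rw [pow_succ, pow_succ, coe_mul', ih]

theorem pow_eigen {A : Sp} {v : V} {c : F} (h : mat A *ᵥ v = c • v) (k : ℕ) :
    mat (A ^ k) *ᵥ v = c ^ k • v := by
  induction k with
  | zero => rw [pow_zero, pow_zero, one_smul, one_mulVec']
  | succ k ih => rw [pow_succ, mul_mulVec', h, Matrix.mulVec_smul, ih, smul_smul, mul_comm, ← pow_succ]

theorem eq_one_of_pow_char_pow {p : ℕ} [Fact p.Prime] [CharP F p] {c : F} {k : ℕ}
    (h : c ^ (p ^ k) = 1) : c = 1 := by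
  have h4 : (c - 1) ^ (p ^ k) = 0 := by rw [sub_pow_char_pow, h, one_pow, sub_self]
  exact sub_eq_zero.1 ((pow_eq_zero_iff (pow_ne_zero _ (Fact.out : p.Prime).ne_zero)).1 h4)

theorem isPGroup_Qsub {p : ℕ} [Fact p.Prime] [CharP F p] (v : V) : IsPGroup p (Qsub v) := by
  rintro ⟨A, hA, hA'⟩
  refine ⟨2, Subtype.ext (ext_mulVec fun x => ?_)⟩
  rcases Nat.eq_zero_or_pos m with hm | hm
  · subst hm; exact Subsingleton.elim _ _
  have : Nonempty (Fin m ⊕ Fin m) := ⟨Sum.inl ⟨0, hm⟩⟩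
  set N := mat A - 1 with hN
  have hNx : ∀ x, N *ᵥ x = mat A *ᵥ x - x := fun x => by rw [hN, Matrix.sub_mulVec, Matrix.one_mulVec]
  have h3 : N * N * N = 0 := by
    refine Matrix.ext_iff_mulVec.2 fun x => ?_
    rw [← Matrix.mulVec_mulVec, ← Matrix.mulVec_mulVec, Matrix.zero_mulVec, hNx x]
    have hd : B (mat A *ᵥ x - x) v = 0 := by
      rw [form_sub_left, ← sub_eq_zero.2 (form_mulVec A x v), hA]
    obtain ⟨k, hk⟩ := hA' _ hd
    rw [hNx (mat A *ᵥ x - x), hk, add_sub_cancel_left, hNx, Matrix.mulVec_smul, hA, sub_self]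
  change mat (A ^ (p ^ 2)) *ᵥ x = mat (1 : Sp) *ᵥ x
  have e : mat (A ^ (p ^ 2)) = 1 := by
    rw [matpow_mulVec, ← sub_eq_zero]
    refine Eq.trans (b := (mat A - 1) ^ (p ^ 2))
      (by rw [sub_pow_char_pow_of_commute _ _ (Commute.one_right _), one_pow]) ?_
    have hp := (Fact.out : p.Prime).two_le
    obtain ⟨j, hj⟩ : ∃ j, p ^ 2 = 3 + j := ⟨p ^ 2 - 3, by
      have : 3 ≤ p ^ 2 := by nlinarith
      omega⟩
    rw [hj, pow_add, show (mat A - 1) ^ 3 = N * N * N by rw [hN]; noncomm_ring, h3, zero_mul]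
  rw [e, coe_one']

theorem mem_normalizer_Qsub {v : V} {g : Sp} (hg : mat g *ᵥ v = v) :
    g ∈ Subgroup.normalizer (Qsub v : Set Sp) := by
  have hconj : ∀ h : Sp, mat h *ᵥ v = v → ∀ A ∈ Qsub v, h * A * h⁻¹ ∈ Qsub v := by
    intro h hh A hA
    obtain ⟨hA1, hA2⟩ := hA
    have hi : mat h⁻¹ *ᵥ v = v := by conv_lhs => rw [← hh, inv_mulVec]
    refine ⟨?_, fun x hx => ?_⟩
    · rw [mul_mulVec', mul_mulVec', hi, hA1, hh]
    · have hx' : B (mat h⁻¹ *ᵥ x) v = 0 := by
        rw [← form_mulVec h, mulVec_inv, hh, hx]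
      obtain ⟨k, hk⟩ := hA2 _ hx'
      exact ⟨k, by rw [mul_mulVec', mul_mulVec', hk, Matrix.mulVec_add, mulVec_inv,
        Matrix.mulVec_smul, hh]⟩
  have hgi : mat g⁻¹ *ᵥ v = v := by conv_lhs => rw [← hg, inv_mulVec]
  rw [Subgroup.mem_normalizer_iff]
  refine fun A => ⟨hconj g hg A, fun hA => ?_⟩
  have := hconj g⁻¹ hgi _ hA
  simpa [mul_assoc] using this

theorem proj_injOn_pgroup (hm : 0 < m) {p : ℕ} [Fact p.Prime] [CharP F p]
    {P : Subgroup Sp} (hP : IsPGroup p P) {x y : Sp} (hx : x ∈ P) (hy : y ∈ P)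
    (h : proj x = proj y) : x = y := by
  obtain ⟨c, -, hc⟩ := exists_sign_of_proj_eq hm h
  obtain ⟨k, hk⟩ := hP ⟨x⁻¹ * y, mul_mem (inv_mem hx) hy⟩
  have hz : ∀ v : V, mat (x⁻¹ * y) *ᵥ v = c • v := fun v => by
    rw [mul_mulVec', hc, Matrix.mulVec_smul, inv_mulVec]
  have h1 : (x⁻¹ * y) ^ (p ^ k) = 1 := congrArg Subtype.val hk
  let i₀ : Fin m ⊕ Fin m := Sum.inl ⟨0, hm⟩
  have h2 := congrFun (pow_eigen (hz (Pi.single i₀ 1)) (p ^ k)) i₀
  rw [h1, one_mulVec'] at h2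
  simp only [Pi.smul_apply, Pi.single_eq_same, smul_eq_mul, mul_one] at h2
  have hc1 : c = 1 := eq_one_of_pow_char_pow h2.symm
  exact ext_mulVec fun v => by rw [hc, hc1, one_smul]

/-- An element fixing `v` and commuting with all Eichler elements of `v`. -/
theorem eq_of_commute {v : V} (hv0 : v ≠ 0) {z : Sp} (hzv : mat z *ᵥ v = v)
    (hc : ∀ (w : V) (a : F) (hw : B w v = 0), eich v w a hw * z = z * eich v w a hw) :
    ∃ (d : V) (a : F) (hd : B d v = 0), z = eich v d a hd ∧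
      ((2 : F) ≠ 0 → z ∈ tsub v) := by
  obtain ⟨y, hy⟩ := exists_dual hv0
  have hzy : B (mat z *ᵥ y) v = 1 := by
    conv_lhs => rw [← hzv]
    rw [form_mulVec, hy]
  set d := mat z *ᵥ y - y with hd
  have hyd : mat z *ᵥ y = y + d := by rw [hd]; abel
  have hdv : B d v = 0 := by rw [hd, form_sub_left, hzy, hy, sub_self]
  have key : ∀ w, B w v = 0 → mat z *ᵥ w = w + B d w • v := by
    intro w hw
    have h := congrArg (fun x : Sp => mat x *ᵥ y) (hc w 0 hw)
    simp only [mul_mulVec', eich_mulVec, Matrix.mulVec_add, Matrix.mulVec_smul, hzv, hzy, hy,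
      one_smul] at h
    rw [hd, form_sub_left]
    linear_combination (norm := module) -h
  have h2 : ∀ w, B w v = 0 → 2 * B d w = 0 := by
    intro w hw
    have e := form_mulVec z w y
    rw [key w hw, hyd] at e
    simp only [form_add_left, form_add_right, form_smul_left, form_swap_zero hdv] at e
    rw [form_skew d w, form_skew y v, hy] at e
    linear_combination -e
  have hxp : ∀ x : V, B (x - B x v • y) v = 0 := fun x => by
    rw [form_sub_left, form_smul_left, hy, mul_one, sub_self]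
  have hz : ∀ x, mat z *ᵥ x = x + B x v • d + (B d x - B x v * B d y) • v := by
    intro x
    have h4 := key _ (hxp x)
    rw [Matrix.mulVec_sub, Matrix.mulVec_smul, hyd, form_sub_right, form_smul_right] at h4
    linear_combination (norm := module) h4
  have h2' : ∀ x, 2 * B d x = 2 * (B x v * B d y) := by
    intro x
    have h5 := h2 _ (hxp x)
    rw [form_sub_right, form_smul_right] at h5
    linear_combination h5
  refine ⟨d, B d y, hdv, ext_mulVec fun x => ?_, fun h20 => ?_⟩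
  · rw [hz, eich_mulVec]
    congr 2
    have h6 := h2' x
    rw [form_skew d x]
    linear_combination h6
  · have h7 : ∀ x, B d x = B x v * B d y := fun x => mul_left_cancel₀ h20 (h2' x)
    have hdk : d = (-B d y) • v := ext_form fun x => by
      rw [form_smul_left, h7, form_skew x v]; ring
    refine mem_tsub.2 ⟨-B d y, ext_mulVec fun x => ?_⟩
    rw [hz, tv_mulVec, h7 x]
    have h8 : B x v • d = (-B d y * B x v) • v := by conv_lhs => rw [hdk, smul_smul, mul_comm]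
    linear_combination (norm := module) h8

theorem eich_conj (A : Sp) (v z : V) (a : F) (h : B z v = 0) :
    A * eich v z a h * A⁻¹ =
      eich (mat A *ᵥ v) (mat A *ᵥ z) a (by rw [form_mulVec, h]) := by
  refine ext_mulVec fun x => ?_
  have e : ∀ u : V, B (mat A⁻¹ *ᵥ x) u = B x (mat A *ᵥ u) := fun u => by
    rw [← form_mulVec A, mulVec_inv]
  simp only [mul_mulVec', eich_mulVec, Matrix.mulVec_add, Matrix.mulVec_smul, mulVec_inv, e]

section Finite

variable [Fintype F]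

theorem exists_fixed_vec (hm : 0 < m) {p : ℕ} [Fact p.Prime] [CharP F p]
    {P : Subgroup Sp} (hP : IsPGroup p P) :
    ∃ v : V, v ≠ 0 ∧ ∀ s ∈ P, mat s *ᵥ v = v := by
  classical
  let X := {v : V // v ≠ 0}
  letI : MulAction P X :=
    { smul := fun s x => ⟨mat s.1 *ᵥ x.1, mulVec_ne_zero s.1 x.2⟩
      one_smul := fun x => Subtype.ext (one_mulVec' x.1)
      mul_smul := fun a b x => Subtype.ext (mul_mulVec' a.1 b.1 x.1) }
  have hX : Nat.card X + 1 = Fintype.card F ^ (2 * m) := by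
    rw [← Finite.card_option, Nat.card_congr (Equiv.optionSubtypeNe (0 : V)), Nat.card_eq_fintype_card,
      Fintype.card_fun, Fintype.card_sum, Fintype.card_fin, two_mul]
  have hndvd : ¬ p ∣ Nat.card X := by
    intro hd
    obtain ⟨k, hp, hk⟩ := FiniteField.card F p
    have : p ∣ Fintype.card F ^ (2 * m) :=
      dvd_pow (by rw [hk]; exact dvd_pow_self p k.ne_zero) (by omega)
    rw [← hX] at this
    exact hp.not_dvd_one ((Nat.dvd_add_right hd).1 this)
  obtain ⟨x, hx⟩ := hP.nonempty_fixed_point_of_prime_not_dvd_card X hndvd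
  exact ⟨x.1, x.2, fun s hs => congrArg Subtype.val (hx ⟨s, hs⟩)⟩

theorem exists_sylow_fix (hm : 0 < m) {p : ℕ} [Fact p.Prime] [CharP F p]
    {v : V} (hv0 : v ≠ 0) : ∃ S : Sylow p Sp, ∀ s ∈ S, mat s *ᵥ v = v := by
  obtain ⟨S₀⟩ : Nonempty (Sylow p Sp) := inferInstance
  obtain ⟨v₀, hv₀, hfix⟩ := exists_fixed_vec hm S₀.2
  obtain ⟨A, hA⟩ := exists_mulVec_eq hv₀ hv0
  refine ⟨A • S₀, fun s hs => ?_⟩
  have hs' : A⁻¹ * s * A ∈ (S₀ : Subgroup Sp) := by
    have h : s ∈ ((A • S₀ : Sylow p Sp) : Subgroup Sp) := hs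
    rw [Sylow.smul_def, Sylow.pointwise_smul_def, Subgroup.mem_pointwise_smul_iff_inv_smul_mem] at h
    simpa [MulAut.smul_def, MulAut.conj_symm_apply] using h
  have h1 : mat (A * (A⁻¹ * s * A)) *ᵥ v₀ = mat A *ᵥ v₀ := by rw [mul_mulVec', hfix _ hs']
  rwa [show A * (A⁻¹ * s * A) = s * A by group, mul_mulVec', hA] at h1

theorem Qsub_le_sylow {p : ℕ} [Fact p.Prime] [CharP F p]
    (S : Sylow p Sp) {v : V} (hfix : ∀ s ∈ S, mat s *ᵥ v = v) : Qsub v ≤ (S : Subgroup Sp) := by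
  have hle : (S : Subgroup Sp) ≤ Subgroup.normalizer (Qsub v : Set Sp) := fun s hs =>
    mem_normalizer_Qsub (hfix s hs)
  have hp := IsPGroup.to_sup_of_normal_left' (isPGroup_Qsub v) S.2 hle
  exact le_sup_left.trans (S.3 hp le_sup_right).le

/-- The centre of a subgroup, as a subgroup of the ambient group. -/
def cent {G : Type*} [Group G] (P : Subgroup G) : Subgroup G := P ⊓ Subgroup.centralizer (P : Set G)

theorem mem_cent {G : Type*} [Group G] {P : Subgroup G} {x : G} :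
    x ∈ cent P ↔ x ∈ P ∧ ∀ y ∈ P, y * x = x * y := by
  rw [cent, Subgroup.mem_inf, Subgroup.mem_centralizer_iff]; rfl

theorem map_cent {G : Type*} [Group G] (α : MulAut G) (P : Subgroup G) :
    (cent P).map α.toMonoidHom = cent (P.map α.toMonoidHom) := by
  ext x
  rw [mem_cent]
  constructor
  · rintro ⟨a, ha, rfl⟩
    rw [SetLike.mem_coe, mem_cent] at ha
    refine ⟨⟨a, ha.1, rfl⟩, ?_⟩
    rintro _ ⟨b, hb, rfl⟩
    rw [← map_mul, ← map_mul, ha.2 b hb]
  · rintro ⟨⟨a, ha, rfl⟩, h⟩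
    refine ⟨a, ?_, rfl⟩
    rw [SetLike.mem_coe, mem_cent]
    exact ⟨ha, fun b hb => α.injective (by simpa using h _ ⟨b, hb, rfl⟩)⟩

/-- A central element of a Sylow subgroup of `PSp`. -/
theorem eq_eich_of_mem_cent (hm : 0 < m) {p : ℕ} [Fact p.Prime] [CharP F p] (S : Sylow p Sp)
    {v : V} (hv0 : v ≠ 0) (hfix : ∀ s ∈ S, mat s *ᵥ v = v) {x : PSp'}
    (hx : x ∈ cent ((S : Subgroup Sp).map proj)) :
    ∃ (d : V) (a : F) (hd : B d v = 0), x = proj (eich v d a hd) ∧
      ((2 : F) ≠ 0 → x ∈ tbar v) := by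
  have hQ := Qsub_le_sylow S hfix
  obtain ⟨hxS, hxc⟩ := mem_cent.1 hx
  obtain ⟨z, hz, rfl⟩ := hxS
  obtain ⟨d, a, hd, hze, hzt⟩ := eq_of_commute hv0 (hfix z hz) fun w a hw => by
    have hE := hQ (eich_mem_Qsub v w a hw)
    refine proj_injOn_pgroup hm S.2 (mul_mem hE hz) (mul_mem hz hE) ?_
    rw [map_mul, map_mul]
    exact hxc _ ⟨_, hE, rfl⟩
  exact ⟨d, a, hd, congrArg proj hze, fun h => Subgroup.mem_map_of_mem _ (hzt h)⟩

theorem tv_mem_cent {p : ℕ} [Fact p.Prime] [CharP F p] (S : Sylow p Sp)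
    {v : V} (hfix : ∀ s ∈ S, mat s *ᵥ v = v) (c : F) :
    proj (tv v c) ∈ cent ((S : Subgroup Sp).map proj) := by
  rw [mem_cent]
  refine ⟨Subgroup.mem_map_of_mem _ (Qsub_le_sylow S hfix (tv_mem_Qsub v c)), ?_⟩
  rintro _ ⟨s, hs, rfl⟩
  rw [← map_mul, ← map_mul]
  congr 1
  have h := tv_conj s v c
  rw [hfix s hs] at h
  exact mul_inv_eq_iff_eq_mul.1 h

theorem cent_sylow (hm : 0 < m) (h2 : (2 : F) ≠ 0) {p : ℕ} [Fact p.Prime] [CharP F p]
    (S : Sylow p Sp) {v : V} (hv0 : v ≠ 0) (hfix : ∀ s ∈ S, mat s *ᵥ v = v) :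
    cent ((S : Subgroup Sp).map proj) = tbar v := by
  refine le_antisymm (fun x hx => ?_) ?_
  · obtain ⟨d, a, hd, -, h⟩ := eq_eich_of_mem_cent hm S hv0 hfix hx
    exact h h2
  · rintro _ ⟨_, ⟨c, rfl⟩, rfl⟩
    exact tv_mem_cent S hfix c

theorem exists_lift_sylow {p : ℕ} [Fact p.Prime] (P : Sylow p PSp') :
    ∃ S : Sylow p Sp, (S : Subgroup Sp).map proj = (P : Subgroup PSp') := by
  obtain ⟨S, hS⟩ := Sylow.mapSurjective_surjective (proj_surjective (F := F) (m := m)) p P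
  exact ⟨S, by rw [← hS]; rfl⟩

/-- The image of a Sylow subgroup under an automorphism, lifted. -/
theorem exists_image_sylow (hm : 0 < m) {p : ℕ} [Fact p.Prime] [CharP F p] (α : MulAut PSp')
    (S : Sylow p Sp) : ∃ (S' : Sylow p Sp) (w : V), w ≠ 0 ∧ (∀ s ∈ S', mat s *ᵥ w = w) ∧
      ((S : Subgroup Sp).map proj).map α.toMonoidHom = (S' : Subgroup Sp).map proj := by
  let P : Sylow p PSp' :=
    (S.mapSurjective proj_surjective).mapSurjective (f := α.toMonoidHom) α.surjective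
  obtain ⟨S', hS'⟩ := exists_lift_sylow P
  obtain ⟨w, hw0, hfix⟩ := exists_fixed_vec hm S'.2
  exact ⟨S', w, hw0, hfix, by rw [hS']; rfl⟩

/-- Odd characteristic: automorphisms permute the transvection groups. -/
theorem exists_image_odd (hm : 0 < m) (h2 : (2 : F) ≠ 0) (α : MulAut PSp') {v : V} (hv0 : v ≠ 0) :
    ∃ w : V, w ≠ 0 ∧ (tbar v).map α.toMonoidHom = tbar w := by
  obtain ⟨p, hp⟩ := CharP.exists F
  have : Fact p.Prime := ⟨CharP.char_is_prime F p⟩
  obtain ⟨S, hS⟩ := exists_sylow_fix (p := p) hm hv0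
  obtain ⟨S', w, hw0, hfix, hS'⟩ := exists_image_sylow hm α S
  refine ⟨w, hw0, ?_⟩
  rw [← cent_sylow hm h2 S hv0 hS, ← cent_sylow hm h2 S' hw0 hfix, map_cent, hS']

end Finite

end CfsgLib.AutPSp
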