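import Cfsg.Agent.AutPSp.Char2
set_option autoImplicit false

/-!
Automorphisms of `PSp_2m(F)` permuting the transvection groups.
-/

namespace CfsgLib.AutPSp

open Matrix
open CfsgLib.SpGeom
open scoped Pointwise

variable {F : Type*} [Field F] {m : ℕ}

local notation "V" => (Fin m ⊕ Fin m → F)
local notation "Sp" => Matrix.symplecticGroup (Fin m) F
local notation "GS" => Cfsg.GSp m F
local notation "PSp'" => Cfsg.PSp m F
local notation "B" => Cfsg.sympForm m F
local notation "mat" A:max => ((A : Sp) : Matrix (Fin m ⊕ Fin m) (Fin m ⊕ Fin m) F)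

/-- The automorphism permutes the transvection groups. -/
def Pres (α : MulAut PSp') : Prop :=
  ∀ v : V, v ≠ 0 → ∃ w : V, w ≠ 0 ∧ (tbar v).map α.toMonoidHom = tbar w

theorem pres_one : Pres (1 : MulAut PSp') := fun v hv => ⟨v, hv, Subgroup.map_id _⟩

theorem Pres.mul {α β : MulAut PSp'} (hα : Pres α) (hβ : Pres β) : Pres (α * β) := by
  intro v hv
  obtain ⟨w, hw, h⟩ := hβ v hv
  obtain ⟨u, hu, h'⟩ := hα w hw
  exact ⟨u, hu, by rw [← h', ← h, Subgroup.map_map]; rfl⟩

theorem Pres.pow {α : MulAut PSp'} (hα : Pres α) (k : ℕ) : Pres (α ^ k) := by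
  induction k with
  | zero => rw [pow_zero]; exact pres_one
  | succ k ih => rw [pow_succ]; exact ih.mul hα

theorem Pres.inv [Finite F] {α : MulAut PSp'} (hα : Pres α) : Pres α⁻¹ := by
  have : Finite (MulAut PSp') := Finite.of_injective _ DFunLike.coe_injective
  rw [inv_eq_of_mul_eq_one_right (a := α) (b := α ^ (orderOf α - 1)) (by
    rw [← pow_succ', Nat.sub_add_cancel (orderOf_pos α), pow_orderOf_eq_one])]
  exact hα.pow _

theorem map_conj_tbar (A : Sp) (v : V) :
    (tbar v).map (MulAut.conj (proj A)).toMonoidHom = tbar (mat A *ᵥ v) := by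
  rw [tbar_conj]; rfl

theorem pres_conj (x : PSp') : Pres (MulAut.conj x) := by
  obtain ⟨A, rfl⟩ := proj_surjective x
  exact fun v hv => ⟨_, mulVec_ne_zero A hv, map_conj_tbar A v⟩

theorem card_tbar_eq {v w : V} (hv : v ≠ 0) (hw : w ≠ 0) :
    Nat.card (tbar v) = Nat.card (tbar w) := by
  obtain ⟨A, rfl⟩ := exists_mulVec_eq hv hw
  rw [tbar_conj]
  exact Nat.card_congr (Subgroup.equivSMul _ _).toEquiv

variable [Fintype F]

theorem pres_of_tv (hm : 2 ≤ m) (h2 : (2 : F) = 0) {α : MulAut PSp'}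
    (h : ∀ v : V, v ≠ 0 → ∃ w : V, w ≠ 0 ∧ α (tvPt v) = tvPt w) : Pres α := by
  intro v hv
  obtain ⟨w0, hw0, h0⟩ := h v hv
  refine ⟨w0, hw0, ?_⟩
  refine Subgroup.eq_of_le_of_card_ge ?_ (le_of_eq ?_)
  · rintro _ ⟨_, ⟨_, ⟨c, rfl⟩, rfl⟩, rfl⟩
    obtain ⟨b, rfl⟩ := exists_sqrt_two h2 c
    rcases eq_or_ne b 0 with hb | hb
    · subst hb; simp [tv_zero]
    rw [show proj (tv v (b ^ 2)) = tvPt (b • v) by rw [tvPt, tv_smul, mul_one]]
    obtain ⟨wb, hwb, hb'⟩ := h (b • v) (smul_ne_zero hb hv)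
    change α (tvPt (b • v)) ∈ tbar w0
    rw [hb']
    suffices hpar : ∃ k : F, k • w0 = wb by
      obtain ⟨k, rfl⟩ := hpar
      have hk : k ≠ 0 := fun h0' => hwb (by rw [h0', zero_smul])
      rw [← tbar_smul hk]
      exact tv_mem_tbar _ _
    by_contra hno
    push Not at hno
    have hmul : tv v (1 : F) * tv (b • v) 1 = tv ((1 + b) • v) 1 := by
      rw [tv_smul, tv_smul, tv_mul]
      congr 1
      linear_combination -b * h2
    have himg : ∃ u : V, proj (tv w0 1 * tv wb 1) = tvPt u := by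
      rw [map_mul, show proj (tv w0 (1 : F)) = α (tvPt v) from h0.symm,
        show proj (tv wb (1 : F)) = α (tvPt (b • v)) from hb'.symm, ← map_mul, tvPt, tvPt,
        ← map_mul proj, hmul]
      rcases eq_or_ne (1 + b) 0 with h1 | h1
      · refine ⟨0, ?_⟩
        have e : tv (0 : V) (1 : F) = 1 := ext_mulVec fun x => by simp [tv_mulVec]
        rw [h1, zero_smul, tvPt, e, map_one, map_one]
      · obtain ⟨u, -, hu⟩ := h ((1 + b) • v) (smul_ne_zero h1 hv)
        exact ⟨u, hu⟩
    obtain ⟨u, hu⟩ := himg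
    have hu' := proj_injective_two (by omega : 0 < m) h2 hu
    have e : ∀ x, x + B x wb • wb + (B x w0 + B x wb * B wb w0) • w0 = x + B x u • u := fun x => by
      have e := congrArg (fun A : Sp => mat A *ᵥ x) hu'
      simpa only [mul_mulVec', tv_mulVec, one_mul, form_add_left, form_smul_left] using e
    have hno' : ∀ a : F, a • wb ≠ w0 := fun a ha => by
      rcases eq_or_ne a 0 with ha0 | ha0
      · exact hw0 (by rw [← ha, ha0, zero_smul])
      · exact hno a⁻¹ (by rw [← ha, smul_smul, inv_mul_cancel₀ ha0, one_smul])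
    obtain ⟨x1, hx1, hx1'⟩ := exists_sep_pair hno'
    obtain ⟨x2, hx2, hx2'⟩ := exists_sep_pair hno
    have e1 := e x1
    simp only [hx1, hx1', zero_smul, add_zero, zero_mul, one_smul] at e1
    have e2 := e x2
    simp only [hx2, hx2', one_smul, zero_add, one_mul] at e2
    have hu0 : B x1 u ≠ 0 := fun h0' => hw0 (by
      rw [h0', zero_smul, add_zero, add_eq_left] at e1; exact e1)
    generalize B wb w0 = β at e2
    refine hno ((B x2 u - β * B x1 u) / B x1 u) ?_
    rw [add_right_inj] at e1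
    rw [add_assoc, add_right_inj] at e2
    rw [e1, smul_smul, div_mul_cancel₀ _ hu0]
    generalize B x1 u = c1 at e1 ⊢
    subst e1
    linear_combination (norm := module) -e2
  · rw [Subgroup.card_map_of_injective α.injective]
    exact card_tbar_eq hw0 hv

/-- If one transvection maps to a transvection, all transvection groups are permuted. -/
theorem pres_of_one (hm : 2 ≤ m) (h2 : (2 : F) = 0) {α : MulAut PSp'} {v0 w0 : V} (hv0 : v0 ≠ 0)
    (hw0 : w0 ≠ 0) (h : α (tvPt v0) = tvPt w0) : Pres α := by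
  refine pres_of_tv hm h2 fun v hv => ?_
  obtain ⟨A, rfl⟩ := exists_mulVec_eq hv0 hv
  obtain ⟨A', hA'⟩ := proj_surjective (α (proj A))
  exact ⟨mat A' *ᵥ w0, mulVec_ne_zero A' hw0, by
    rw [← tvPt_conj, ← tvPt_conj, map_mul, map_mul, map_inv, hA', h]⟩

/-- Outside `PSp_4(2^f)` all automorphisms permute the transvection groups. -/
theorem pres_all (hm : 2 ≤ m) (h : m ≠ 2 ∨ (2 : F) ≠ 0) (α : MulAut PSp') : Pres α := by
  by_cases h2 : (2 : F) = 0
  · refine pres_of_tv hm h2 fun v hv => ?_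
    rcases image_tv hm h2 α hv with h' | ⟨hm2, -⟩
    · exact h'
    · exact absurd h2 (h.resolve_left fun hne => hne hm2)
  · exact fun v hv => exists_image_odd (by omega) h2 α hv

end CfsgLib.AutPSp
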