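import Cfsg.Agent.AutPSp.Classify
set_option autoImplicit false

/-!
Rigidity: an automorphism fixing a radical pointwise and two points is trivial; the classification.
-/

namespace CfsgLib.AutPSp

open Matrix
open CfsgLib.SpGeom
open scoped Pointwise

variable {F : Type*} [Field F] {m : ℕ}

local notation "V" => (Fin m ⊕ Fin m → F)
local notation "Sp" => Matrix.symplecticGroup (Fin m) F
local notation "GS" => Cfsg.GSp m F
local notation "PSp'" => Cfsg.PSp m F
local notation "B" => Cfsg.sympForm m F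
local notation "mat" A:max => ((A : Sp) : Matrix (Fin m ⊕ Fin m) (Fin m ⊕ Fin m) F)

/-- A linear map with every vector an eigenvector is scalar. -/
theorem exists_scalar_of_eigen (hm : 0 < m) {A : Sp}
    (h : ∀ v : V, v ≠ 0 → ∃ a : F, mat A *ᵥ v = a • v) :
    ∃ a : F, ∀ v : V, mat A *ᵥ v = a • v := by
  let v0 : V := Pi.single (Sum.inl ⟨0, hm⟩) 1
  have hv0 : v0 ≠ 0 := Pi.single_ne_zero_iff.2 one_ne_zero
  obtain ⟨a, ha⟩ := h v0 hv0
  refine ⟨a, fun v => ?_⟩
  rcases eq_or_ne v 0 with rfl | hv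
  · simp
  obtain ⟨b, hb⟩ := h v hv
  by_cases hpar : ∃ k : F, k • v0 = v
  · obtain ⟨k, rfl⟩ := hpar
    rw [Matrix.mulVec_smul, ha, smul_comm]
  push Not at hpar
  have hli := (LinearIndependent.pair_iff' hv0).2 hpar
  obtain ⟨c, hc⟩ := h (v0 + v) (fun h0 => hpar (-1) (by rw [neg_one_smul, ← add_eq_zero_iff_neg_eq, h0]))
  rw [Matrix.mulVec_add, ha, hb, smul_add] at hc
  obtain ⟨hac, hbc⟩ := hli.eq_of_pair hc
  rw [hb, hbc, ← hac]

theorem eq_one_of_fix_tbar (hm : 2 ≤ m) {γ : MulAut PSp'}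
    (h : ∀ v : V, v ≠ 0 → (tbar v).map γ.toMonoidHom = tbar v) : γ = 1 := by
  refine MulEquiv.ext fun x => ?_
  obtain ⟨A, rfl⟩ := proj_surjective x
  obtain ⟨A', hA'⟩ := proj_surjective (γ (proj A))
  have key : ∀ v : V, v ≠ 0 → ∃ a : F, mat (A⁻¹ * A') *ᵥ v = a • v := fun v hv => by
    have h1 : tbar (mat A' *ᵥ v) = tbar (mat A *ᵥ v) := by
      have h2 : ((tbar v).map (MulAut.conj (proj A)).toMonoidHom).map γ.toMonoidHom =
          ((tbar v).map γ.toMonoidHom).map (MulAut.conj (γ (proj A))).toMonoidHom :=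
        (map_map_conj γ (proj A) (tbar v)).symm
      rw [h v hv, map_conj_tbar, h _ (mulVec_ne_zero A hv), ← hA', map_conj_tbar] at h2
      exact h2.symm
    obtain ⟨a, -, ha⟩ := tbar_eq_imp hm (mulVec_ne_zero A' hv) h1
    exact ⟨a, by rw [mul_mulVec', ha, Matrix.mulVec_smul, inv_mulVec]⟩
  obtain ⟨a, ha⟩ := exists_scalar_of_eigen (by omega) key
  have h3 : proj A = proj A' := proj_eq_of_smul (c := a) fun v => by
    rw [← Matrix.mulVec_smul, ← ha, ← mul_mulVec', mul_inv_cancel_left]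
  rw [MulAut.one_apply, ← hA', ← h3]

variable [Fintype F]

theorem eq_one_of_fix (hm : 2 ≤ m) {e f : V} (hfe : B f e = 1) {γ : MulAut PSp'} (hγ : Pres γ)
    (he : (tbar e).map γ.toMonoidHom = tbar e) (hf : (tbar f).map γ.toMonoidHom = tbar f)
    (hQ : ∀ x ∈ qbar e, γ x = x) : γ = 1 := by
  refine eq_one_of_fix_tbar hm fun v hv => ?_
  have hpt : ∀ u : V, B u e ≠ 0 → (tbar u).map γ.toMonoidHom = tbar u := by
    intro u hu
    set u' := (B u e)⁻¹ • u with hu'
    have hu'e : B u' e = 1 := by rw [hu', form_smul_left, inv_mul_cancel₀ hu]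
    rw [← tbar_smul (inv_ne_zero hu) u, ← hu']
    clear_value u'
    set a := B f u' with ha
    clear_value a
    set z := u' - f - a • e with hz
    have hze : B z e = 0 := by
      rw [hz, form_sub_left, form_sub_left, form_smul_left, hu'e, hfe, form_self]; ring
    have hzf : B z f = 0 := by
      rw [hz, form_sub_left, form_sub_left, form_smul_left, form_self, form_skew f e, hfe, ha,
        form_skew f u']; ring
    have e1 : mat (eich e z a hze) *ᵥ f = u' := by rw [eich_mulVec_f hfe hze hzf, hz]; abel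
    rw [← e1, ← map_conj_tbar, ← map_map_conj, hf,
      hQ _ (Subgroup.mem_map_of_mem proj (eich_mem_Qsub e z a hze))]
  by_cases hve : B v e = 0
  swap
  · exact hpt v hve
  obtain ⟨w, hw, hw'⟩ := hγ v hv
  rw [hw']
  by_contra hne
  have hnp : ∀ a : F, a • w ≠ v := fun a ha => hne (by
    rcases eq_or_ne a 0 with h0 | h0
    · exact absurd (by rw [← ha, h0, zero_smul]) hv
    · rw [← ha, tbar_smul h0])
  have hne' : ∀ a : F, a • w ≠ e := fun a ha => by
    rcases eq_or_ne a 0 with h0 | h0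
    · exact one_ne_zero (α := F) (by rw [← hfe, ← ha, h0, zero_smul, form_zero_right])
    refine hne ?_
    have h1 : (tbar v).map γ.toMonoidHom = (tbar e).map γ.toMonoidHom := by
      rw [hw', he, ← ha, tbar_smul h0]
    have h2 : tbar v = tbar e := Subgroup.map_injective (f := γ.toMonoidHom) γ.injective h1
    rw [h2, ← ha, tbar_smul h0]
  obtain ⟨u1, hu1, hu1'⟩ := exists_sep_pair hnp
  obtain ⟨u2, hu2, hu2'⟩ := exists_sep_pair hne'
  obtain ⟨u, huw, huv, hue⟩ : ∃ u, B u w = 0 ∧ B u v ≠ 0 ∧ B u e ≠ 0 := by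
    by_cases h1 : B u1 e = 0
    · by_cases h2 : B u2 v = 0
      · exact ⟨u1 + u2, by rw [form_add_left, hu1, hu2, add_zero],
          by rw [form_add_left, h2, add_zero, hu1']; exact one_ne_zero,
          by rw [form_add_left, h1, zero_add, hu2']; exact one_ne_zero⟩
      · exact ⟨u2, hu2, h2, by rw [hu2']; exact one_ne_zero⟩
    · exact ⟨u1, hu1, by rw [hu1']; exact one_ne_zero, h1⟩
  exact huv ((comm_iff hm).1 ((comm_map γ (hpt u hue) hw').1 ((comm_iff hm).2 huw)))

/-- The classification of the automorphisms permuting the transvection groups. -/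
theorem classify (hm : 2 ≤ m) {α : MulAut PSp'} (hα : Pres α) :
    ∃ (g : GS) (τ : RingAut F), α = conjPSp g * fieldPSp τ := by
  obtain ⟨f, e, hfe⟩ := exists_pair (F := F) (m := m) (by omega)
  have he0 : e ≠ 0 := by rintro rfl; simp [form_zero_right] at hfe
  have hf0 : f ≠ 0 := by rintro rfl; simp [form_zero_left] at hfe
  obtain ⟨u, hu, hu'⟩ := hα e he0
  obtain ⟨w, hw, hw'⟩ := hα f hf0
  have hwu : B w u ≠ 0 := fun h0 => by
    have := (comm_iff hm).1 ((comm_map α hw' hu').1 ((comm_iff hm).2 h0))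
    rw [hfe] at this
    exact one_ne_zero this
  obtain ⟨A, hA1, hA2⟩ := exists_mulVec_pair (u := (B w u)⁻¹ • w) (v := u) (u' := f) (v' := e)
    (by rw [form_smul_left, inv_mul_cancel₀ hwu]) hfe
  set β := MulAut.conj (proj A) * α with hβdef
  have hβ : Pres β := (pres_conj _).mul hα
  have hmapmul : ∀ (a b : MulAut PSp') (K : Subgroup PSp'),
      K.map (a * b).toMonoidHom = (K.map b.toMonoidHom).map a.toMonoidHom :=
    fun a b K => by rw [Subgroup.map_map]; rfl
  have hβe : (tbar e).map β.toMonoidHom = tbar e := by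
    rw [hmapmul, hu', map_conj_tbar, hA2]
  have hβf : (tbar f).map β.toMonoidHom = tbar f := by
    rw [hmapmul, hw', ← tbar_smul (inv_ne_zero hwu) w, map_conj_tbar, hA1]
  obtain ⟨g, τ, hQ, hΦe, hΦf⟩ := exists_std hm hfe hβ hβe hβf
  set Φ := conjPSp g * fieldPSp τ with hΦ
  have hfix : ∀ K : Subgroup PSp', K.map β.toMonoidHom = K → K.map Φ.toMonoidHom = K →
      K.map (Φ⁻¹ * β).toMonoidHom = K := fun K h1 h2 => by
    rw [hmapmul, h1]
    conv_lhs => rw [← h2]
    rw [← hmapmul, inv_mul_cancel]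
    exact Subgroup.map_id K
  have h1 : Φ⁻¹ * β = 1 := eq_one_of_fix hm hfe ((pres_std g τ).inv.mul hβ)
    (hfix _ hβe hΦe) (hfix _ hβf hΦf) fun x hx => by
      rw [MulAut.mul_apply, ← hQ x hx]
      exact Φ.symm_apply_apply x
  refine ⟨(toGS A)⁻¹ * g, τ, ?_⟩
  rw [map_mul, map_inv, conjPSp_toGS, mul_assoc, ← hΦ, inv_mul_eq_one.1 h1, hβdef,
    inv_mul_cancel_left]

end CfsgLib.AutPSp
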