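import Cfsg.Agent.AutPSp.Rigid
import Cfsg.Agent.AutPSL.Card
import Cfsg.Prelude.Def_KGroupFacts
set_option autoImplicit false

/-!
Uniqueness of the decomposition, the field part as a homomorphism, and orders.
-/

namespace CfsgLib.AutPSp

open Matrix
open scoped Classical
open CfsgLib.SpGeom

variable {F : Type*} [Field F] {m : ℕ}

local notation "V" => (Fin m ⊕ Fin m → F)
local notation "Sp" => Matrix.symplecticGroup (Fin m) F
local notation "GS" => Cfsg.GSp m F
local notation "PSp'" => Cfsg.PSp m F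
local notation "B" => Cfsg.sympForm m F
local notation "mat" A:max => ((A : Sp) : Matrix (Fin m ⊕ Fin m) (Fin m ⊕ Fin m) F)
local notation "mg" A:max => (((A : GS) : GL (Fin m ⊕ Fin m) F) : Matrix (Fin m ⊕ Fin m) (Fin m ⊕ Fin m) F)

/-- A semilinear map with every vector an eigenvector is a scalar. -/
theorem semi_fix_all (hm : 0 < m) (g : GS) (τ : RingAut F)
    (h : ∀ v : V, v ≠ 0 → ∃ a : F, semi g τ v = a • v) :
    τ = 1 ∧ ∃ a : F, mg g = a • (1 : Matrix (Fin m ⊕ Fin m) (Fin m ⊕ Fin m) F) := by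
  let i0 : Fin m ⊕ Fin m := Sum.inl ⟨0, hm⟩
  have hb : ∀ i, τ ∘ (Pi.single i 1 : V) = Pi.single i 1 := fun i => funext fun j => by
    by_cases hj : j = i <;> simp [hj]
  have hne : ∀ i, (Pi.single i 1 : V) ≠ 0 := fun i => Pi.single_ne_zero_iff.2 one_ne_zero
  choose a ha using fun i => h _ (hne i)
  have hai : ∀ i, mg g *ᵥ Pi.single i 1 = a i • Pi.single i 1 := fun i => by
    rw [← ha i, semi, hb]
  have ha0 : ∀ i, a i ≠ 0 := fun i h0 =>
    semi_ne_zero g τ (hne i) (by rw [ha i, h0, zero_smul])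
  have key : ∀ i, i ≠ i0 → ∀ c : F, τ c * a i = a i0 * c := fun i hi c => by
    obtain ⟨b, hbb⟩ := h (Pi.single i0 1 + c • Pi.single i 1) (fun h0 => by
      simpa [hi.symm] using congrFun h0 i0)
    have e : τ ∘ (Pi.single i0 1 + c • Pi.single i 1 : V) = Pi.single i0 1 + τ c • Pi.single i 1 := by
      funext j
      have e1 := congrFun (hb i0) j
      have e2 := congrFun (hb i) j
      simp only [Function.comp_apply] at e1 e2
      simp [map_add, map_mul, e1, e2]
    rw [semi, e, Matrix.mulVec_add, Matrix.mulVec_smul, hai, hai] at hbb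
    have e1 := congrFun hbb i0
    have e2 := congrFun hbb i
    simp [hi, hi.symm] at e1 e2
    rw [e2, e1]
  let i1 : Fin m ⊕ Fin m := Sum.inr ⟨0, hm⟩
  have hall : ∀ i, a i = a i0 := fun i => by
    rcases eq_or_ne i i0 with rfl | hi
    · rfl
    · have := key i hi 1
      rwa [map_one, one_mul, mul_one] at this
  have hτ : τ = 1 := by
    refine RingEquiv.ext fun c => mul_right_cancel₀ (ha0 i0) ?_
    conv_lhs => rw [← hall i1, key i1 Sum.inr_ne_inl c, mul_comm]
    rfl
  refine ⟨hτ, a i0, Matrix.ext_of_mulVec_single fun i => ?_⟩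
  rw [hai, hall, Matrix.smul_mulVec, Matrix.one_mulVec]

theorem conjPSp_eq_one_of_scalar {g : GS} {a : F}
    (h : mg g = a • (1 : Matrix (Fin m ⊕ Fin m) (Fin m ⊕ Fin m) F)) : conjPSp g = 1 := by
  refine MulEquiv.ext fun x => ?_
  obtain ⟨s, rfl⟩ := proj_surjective x
  rw [conjPSp_proj, MulAut.one_apply]
  refine congrArg proj (Subtype.ext ?_)
  have h1 : mg g * mg g⁻¹ = 1 := by rw [← GS_coe_mul, mul_inv_cancel]; rfl
  rw [conjSp_val, h, Matrix.smul_mul, Matrix.one_mul, ← Matrix.mul_one (mat s), ← Matrix.mul_smul,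
    ← h, Matrix.mul_assoc, h1]

theorem decomposition_zero (hm : 2 ≤ m) {g : GS} {τ : RingAut F}
    (h : conjPSp g * fieldPSp τ = 1) :
    τ = 1 ∧ ∃ a : F, mg g = a • (1 : Matrix (Fin m ⊕ Fin m) (Fin m ⊕ Fin m) F) := by
  refine semi_fix_all (by omega) g τ fun v hv => ?_
  have h1 := std_tbar g τ v
  rw [show std g τ = 1 from h, show (1 : MulAut PSp').toMonoidHom = MonoidHom.id _ from rfl,
    Subgroup.map_id] at h1
  obtain ⟨a, -, ha⟩ := tbar_eq_imp hm (semi_ne_zero g τ hv) h1.symm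
  exact ⟨a, ha⟩

theorem conjPSp_eq_one_iff (hm : 2 ≤ m) {g : GS} :
    conjPSp g = 1 ↔ ∃ a : F, mg g = a • (1 : Matrix (Fin m ⊕ Fin m) (Fin m ⊕ Fin m) F) :=
  ⟨fun h => (decomposition_zero hm (τ := 1) (by rw [h, map_one, one_mul])).2,
    fun ⟨_, h⟩ => conjPSp_eq_one_of_scalar h⟩

theorem eq_one_of_conjPSp_eq_fieldPSp (hm : 2 ≤ m) {g : GS} {τ : RingAut F}
    (h : conjPSp g = fieldPSp τ) : τ = 1 := by
  have h1 : conjPSp g * fieldPSp τ⁻¹ = 1 := by rw [h, ← map_mul, mul_inv_cancel, map_one]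
  exact inv_eq_one.1 (decomposition_zero hm h1).1

theorem decomposition_unique (hm : 2 ≤ m) {g g' : GS} {τ τ' : RingAut F}
    (h : conjPSp g * fieldPSp τ = conjPSp g' * fieldPSp τ') : τ = τ' ∧ conjPSp g = conjPSp g' := by
  have h1 : conjPSp (g'⁻¹ * g) = fieldPSp (τ' * τ⁻¹) := by
    rw [map_mul, map_inv, map_mul, map_inv, inv_mul_eq_iff_eq_mul, ← mul_assoc, eq_mul_inv_iff_mul_eq]
    exact h
  have h2 := eq_one_of_conjPSp_eq_fieldPSp hm h1
  rw [mul_inv_eq_one] at h2
  subst h2
  exact ⟨rfl, mul_right_cancel h⟩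

variable [Fintype F]

/-- The automorphisms permuting the transvection groups. -/
def presSub : Subgroup (MulAut PSp') where
  carrier := {α | Pres α}
  one_mem' := pres_one
  mul_mem' := Pres.mul
  inv_mem' := Pres.inv

theorem mem_presSub {α : MulAut PSp'} : α ∈ presSub ↔ Pres α := Iff.rfl

theorem pres_conjPSp (g : GS) : Pres (conjPSp g) := by
  have := pres_std g 1
  rwa [std, map_one, mul_one] at this

theorem range_le_presSub : (conjPSp (F := F) (m := m)).range ≤ presSub := by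
  rintro _ ⟨g, rfl⟩
  exact pres_conjPSp g

theorem gammaPSp_eq (hm : 2 ≤ m) : Cfsg.gammaPSp m F = presSub := by
  refine le_antisymm ?_ ?_
  · rw [Cfsg.gammaPSp, Cfsg.autSubgroupOf, Subgroup.closure_le]
    rintro β ⟨g, σ, hg, hind⟩
    rw [eq_of_isInduced (g := ⟨g, hg⟩) hind]
    exact pres_std _ _
  · intro α hα
    obtain ⟨g, τ, rfl⟩ := classify hm hα
    exact mem_gammaPSp g τ

theorem presSub_eq_top (hm : 2 ≤ m) (h : m ≠ 2 ∨ (2 : F) ≠ 0) :
    presSub (F := F) (m := m) = ⊤ :=
  eq_top_iff.2 fun α _ => pres_all hm h α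

/-- The field part. -/
theorem exists_partHom (hm : 2 ≤ m) :
    ∃ χ : presSub (F := F) (m := m) →* RingAut F, Function.Surjective χ ∧
      χ.ker = (conjPSp (F := F) (m := m)).range.subgroupOf presSub ∧
      ∀ (g : GS) (τ : RingAut F) (h : conjPSp g * fieldPSp τ ∈ presSub), χ ⟨_, h⟩ = τ := by
  choose gf τf hdec using fun α : presSub (F := F) (m := m) => classify hm (mem_presSub.1 α.2)
  have huniq : ∀ (α : presSub) (g : GS) τ, α.1 = conjPSp g * fieldPSp τ → τf α = τ :=
    fun α g τ h => (decomposition_unique hm ((hdec α).symm.trans h)).1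
  let χ : presSub (F := F) (m := m) →* RingAut F := MonoidHom.mk' τf fun α β => by
    refine huniq _ (gf α * fieldGS (τf α) (gf β)) _ ?_
    rw [Subgroup.coe_mul, hdec α, hdec β, map_mul, map_mul, mul_assoc,
      ← mul_assoc (fieldPSp (τf α)), fieldPSp_mul_conjPSp]
    group
  have hχ : ∀ (g : GS) (τ : RingAut F) (h : conjPSp g * fieldPSp τ ∈ presSub), χ ⟨_, h⟩ = τ :=
    fun g τ h => huniq _ g τ rfl
  refine ⟨χ, fun τ => ⟨_, hχ 1 τ (pres_std 1 τ)⟩, ?_, hχ⟩
  ext α
  rw [Subgroup.mem_subgroupOf]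
  constructor
  · intro hα
    exact ⟨gf α, by rw [hdec α, show τf α = 1 from hα, map_one, mul_one]⟩
  · rintro ⟨g, hg⟩
    exact huniq α g 1 (by rw [← hg, map_one, mul_one])

theorem range_normal (hm : 2 ≤ m) :
    ((conjPSp (F := F) (m := m)).range.subgroupOf presSub).Normal := by
  obtain ⟨χ, -, hker, -⟩ := exists_partHom (F := F) hm
  rw [← hker]
  infer_instance

/-- The multiplier as a homomorphism. -/
noncomputable def multHom (hm : 0 < m) : GS →* Fˣ :=
  MonoidHom.mk' mult fun g h => Units.ext (mult_eq hm fun u v => by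
    rw [GS_coe_mul, ← Matrix.mulVec_mulVec, ← Matrix.mulVec_mulVec, mult_spec, mult_spec,
      Units.val_mul, mul_assoc])

omit [Fintype F] in
theorem multHom_surjective (hm : 0 < m) : Function.Surjective (multHom (F := F) hm) := by
  intro k
  let d : Fin m ⊕ Fin m → F := Sum.elim (fun _ => (k : F)) fun _ => 1
  have hd : (Matrix.diagonal d).det ≠ 0 := by
    simp [Matrix.det_diagonal, d, Finset.prod_ne_zero_iff]
  have hg : ∀ u v : V, B (Matrix.diagonal d *ᵥ u) (Matrix.diagonal d *ᵥ v) = (k : F) * B u v :=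
    fun u v => by
    simp only [form_def, Matrix.mulVec_diagonal, d, Sum.elim_inl, Sum.elim_inr, Finset.mul_sum]
    exact Finset.sum_congr rfl fun i _ => by ring
  exact ⟨⟨Matrix.GeneralLinearGroup.mkOfDetNeZero _ hd, k, hg⟩, Units.ext (mult_eq hm hg)⟩

theorem card_GS (hm : 0 < m) : Nat.card GS = Nat.card Fˣ * Nat.card Sp := by
  have h := Subgroup.card_eq_card_quotient_mul_card_subgroup (multHom (F := F) hm).ker
  rw [Nat.card_congr (QuotientGroup.quotientKerEquivOfSurjective _ (multHom_surjective hm)).toEquiv] at h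
  rw [h]
  congr 1
  refine (Nat.card_congr (Equiv.ofBijective
    (fun A : Sp => (⟨toGS A, Units.ext (mult_eq hm (g := toGS A) (c := 1) fun u v => by
      rw [one_mul]; exact form_mulVec A u v)⟩ : (multHom (F := F) hm).ker)) ⟨?_, ?_⟩)).symm
  · intro A A' e
    exact Subtype.ext (congrArg (fun g : (multHom (F := F) hm).ker => mg g.1) e)
  · intro g
    refine ⟨⟨mg g.1, mem_of_form fun u v => ?_⟩, Subtype.ext (Subtype.ext (Units.ext rfl))⟩
    rw [mult_spec, show mult g.1 = 1 from g.2, Units.val_one, one_mul]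

theorem card_range_conjPSp (hm : 2 ≤ m) :
    Nat.card (conjPSp (F := F) (m := m)).range = Nat.card Sp := by
  have hk : Nat.card (conjPSp (F := F) (m := m)).ker = Nat.card Fˣ := by
    have : Nonempty (Fin m ⊕ Fin m) := ⟨Sum.inl ⟨0, by omega⟩⟩
    let s : Fˣ → (conjPSp (F := F) (m := m)).ker := fun u =>
      ⟨⟨Matrix.GeneralLinearGroup.mkOfDetNeZero
          ((u : F) • (1 : Matrix (Fin m ⊕ Fin m) (Fin m ⊕ Fin m) F)) (by simp [Matrix.det_smul]),
          u * u, fun x y => by
          change B (((u : F) • (1 : Matrix (Fin m ⊕ Fin m) (Fin m ⊕ Fin m) F)) *ᵥ x)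
            (((u : F) • (1 : Matrix (Fin m ⊕ Fin m) (Fin m ⊕ Fin m) F)) *ᵥ y) = _
          rw [Matrix.smul_mulVec, Matrix.smul_mulVec, Matrix.one_mulVec, Matrix.one_mulVec,
            form_smul_left, form_smul_right, ← mul_assoc, Units.val_mul]⟩,
        conjPSp_eq_one_of_scalar (a := (u : F)) rfl⟩
    let i₀ : Fin m ⊕ Fin m := Sum.inl ⟨0, by omega⟩
    refine (Nat.card_congr (Equiv.ofBijective s ⟨fun u v e => ?_, fun g => ?_⟩)).symm
    · have h1 := congrArg (fun g : (conjPSp (F := F) (m := m)).ker => (mg g.1) i₀ i₀) e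
      have h2 : (u : F) * 1 = (v : F) * 1 := by simpa [s] using h1
      exact Units.ext (by simpa using h2)
    · obtain ⟨a, ha⟩ := (conjPSp_eq_one_iff hm).1 g.2
      have ha0 : a ≠ 0 := fun e => by
        rw [e, zero_smul] at ha
        have h1 := GS_mulVec_inv g.1 (Pi.single i₀ 1 : V)
        rw [ha, Matrix.zero_mulVec] at h1
        simpa using congrFun h1 i₀
      exact ⟨Units.mk0 a ha0, Subtype.ext (Subtype.ext (Units.ext ha.symm))⟩
  have h := Subgroup.card_eq_card_quotient_mul_card_subgroup (conjPSp (F := F) (m := m)).ker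
  rw [hk, Nat.card_congr (QuotientGroup.quotientKerEquivRange (conjPSp (F := F) (m := m))).toEquiv,
    card_GS (by omega), mul_comm] at h
  exact (Nat.eq_of_mul_eq_mul_right Nat.card_pos h).symm

theorem card_center_Sp (hm : 0 < m) :
    Nat.card (Subgroup.center Sp) = if (2 : F) = 0 then 1 else 2 := by
  let N : Sp := ⟨-1, mem_of_form fun u v => by
    simp only [Matrix.neg_mulVec, Matrix.one_mulVec, ← neg_one_smul F u, ← neg_one_smul F v,
      form_smul_left, form_smul_right]; ring⟩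
  have hiff : ∀ g, g ∈ Subgroup.center Sp ↔ g = 1 ∨ g = N := fun g => by
    rw [CfsgLib.Symp.mem_center_iff hm]
    exact or_congr ⟨fun h => Subtype.ext h, fun h => congrArg Subtype.val h⟩
      ⟨fun h => Subtype.ext h, fun h => congrArg Subtype.val h⟩
  have hN1 : N = 1 ↔ (2 : F) = 0 := by
    let i₀ : Fin m ⊕ Fin m := Sum.inl ⟨0, hm⟩
    constructor
    · intro h
      have := congrFun₂ (congrArg Subtype.val h) i₀ i₀
      simp [N] at this
      linear_combination -this
    · intro h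
      refine ext_mulVec fun v => funext fun i => ?_
      rw [one_mulVec']
      simp [N, Matrix.neg_mulVec]
      linear_combination -(v i) * h
  split_ifs with h2
  · rw [Nat.card_eq_one_iff_unique]
    refine ⟨⟨fun a b => Subtype.ext ?_⟩, inferInstance⟩
    rcases (hiff a).1 a.2 with ha | ha <;> rcases (hiff b).1 b.2 with hb | hb <;>
      simp [ha, hb, hN1.2 h2]
  · rw [Nat.card_eq_two_iff]
    refine ⟨1, ⟨N, (hiff N).2 (Or.inr rfl)⟩, fun e => h2 (hN1.1 (congrArg Subtype.val e).symm), ?_⟩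
    refine Set.eq_univ_of_forall fun a => ?_
    rcases (hiff a).1 a.2 with ha | ha
    · exact Or.inl (Subtype.ext ha)
    · exact Or.inr (Subtype.ext ha)

theorem center_eq_gcd {p f : ℕ} [Fact p.Prime] [CharP F p] (hf : 1 ≤ f) :
    (if (2 : F) = 0 then 1 else 2) = Nat.gcd 2 (p ^ f - 1) := by
  have hp := (Fact.out : p.Prime)
  rcases eq_or_ne p 2 with h2 | h2
  · subst h2
    rw [if_pos (CharTwo.two_eq_zero (R := F))]
    symm
    refine (Nat.prime_two.coprime_iff_not_dvd).2 ?_
    have : 2 ∣ 2 ^ f := dvd_pow_self 2 (by omega)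
    have : 1 ≤ 2 ^ f := Nat.one_le_two_pow
    omega
  · rw [if_neg]
    · have hodd : Odd (p ^ f) := (hp.odd_of_ne_two h2).pow
      obtain ⟨k, hk⟩ := hodd
      rw [hk, Nat.add_sub_cancel]
      exact (Nat.gcd_eq_left ⟨k, rfl⟩).symm
    · intro h
      exact h2 ((Nat.prime_dvd_prime_iff_eq hp Nat.prime_two).1
        ((CharP.cast_eq_zero_iff F p 2).1 (by exact_mod_cast h)))

theorem card_Sp_eq (hm : 0 < m) :
    Nat.card Sp = (if (2 : F) = 0 then 1 else 2) * Nat.card PSp' := by
  rw [← card_center_Sp hm, mul_comm]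
  exact Subgroup.card_eq_card_quotient_mul_card_subgroup _

theorem card_presSub (hm : 2 ≤ m) :
    Nat.card (presSub (F := F) (m := m)) = Nat.card (RingAut F) * Nat.card Sp := by
  obtain ⟨χ, hsurj, hker, -⟩ := exists_partHom (F := F) hm
  have h := Subgroup.card_eq_card_quotient_mul_card_subgroup χ.ker
  rw [Nat.card_congr (QuotientGroup.quotientKerEquivOfSurjective χ hsurj).toEquiv, hker,
    Nat.card_congr (Subgroup.subgroupOfEquivOfLe range_le_presSub).toEquiv,
    card_range_conjPSp hm] at h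
  exact h

theorem conj_injective (hm : 2 ≤ m) :
    Function.Injective (MulAut.conj : PSp' →* MulAut PSp') := by
  rw [injective_iff_map_eq_one]
  intro x hx
  obtain ⟨h, rfl⟩ := proj_surjective x
  rw [← conjPSp_toGS] at hx
  obtain ⟨a, ha⟩ := (conjPSp_eq_one_iff hm).1 hx
  refine proj_eq_one_iff.2 (mem_center_of_scalar (c := a) fun v => ?_)
  rw [show mat h = mg (toGS h) from rfl, ha, Matrix.smul_mulVec, Matrix.one_mulVec]

end CfsgLib.AutPSp
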